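import Mathlib

/-!
# Packed permutations of 77 points and chains of transversals (owner: helper21)

Seven bits for each image, the image of 0 lowest.
-/

set_option autoImplicit false

namespace CfsgLib.Sporadic.J4Inv

/-- The image of a point. -/
noncomputable def pget7 (p i : ℕ) : ℕ := Nat.land (Nat.shiftRight p (Nat.mul 7 i)) 127

/-- Packing a list of images. -/
noncomputable def pack7 (l : List ℕ) : ℕ :=
  List.rec (motive := fun _ => ℕ) 0 (fun a _ ih => Nat.add a (Nat.shiftLeft ih 7)) l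

theorem pget7_pack7 : ∀ (l : List ℕ), (∀ a ∈ l, a < 128) → ∀ i, pget7 (pack7 l) i = l.getD i 0
  | [], _, i => by
    show (0 >>> (7 * i)) &&& 127 = _
    simp
  | a :: l, h, i => by
    have ha := h a List.mem_cons_self
    have e : pack7 (a :: l) = a + 2 ^ 7 * pack7 l := by
      show a + (pack7 l) <<< 7 = _
      rw [Nat.shiftLeft_eq, mul_comm]
    show (pack7 (a :: l) >>> (7 * i)) &&& 127 = _
    rcases i with _ | i
    · rw [show (127 : ℕ) = 2 ^ 7 - 1 from rfl, Nat.and_two_pow_sub_one_eq_mod, Nat.mul_zero, Nat.shiftRight_zero, e,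
        Nat.add_mul_mod_self_left, Nat.mod_eq_of_lt (by simpa using ha)]
      rfl
    · rw [show 7 * (i + 1) = 7 + 7 * i by ring, Nat.shiftRight_add]
      have e2 : pack7 (a :: l) >>> 7 = pack7 l := by
        rw [Nat.shiftRight_eq_div_pow, e, Nat.add_mul_div_left _ _ (Nat.two_pow_pos 7),
          Nat.div_eq_of_lt (by simpa using ha), Nat.zero_add]
      rw [e2]
      exact pget7_pack7 l (fun x hx => h x (List.mem_cons_of_mem _ hx)) i

theorem pget7_lt (p i : ℕ) : pget7 p i < 128 :=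
  lt_of_le_of_lt (show _ &&& 127 ≤ 127 from Nat.and_le_right) (by norm_num)

/-- The packed number holds the images. -/
def Rep7 (σ : Equiv.Perm (Fin 77)) (p : ℕ) : Prop := ∀ x : Fin 77, pget7 p x.val = (σ x).val

theorem Rep7.unique {σ τ : Equiv.Perm (Fin 77)} {p : ℕ} (h : Rep7 σ p) (h' : Rep7 τ p) : σ = τ :=
  Equiv.ext fun x => Fin.ext ((h x).symm.trans (h' x))

/-- The packed product, the right one acting first. -/
noncomputable def pmul7 (p q : ℕ) : ℕ := pack7 ((List.range 77).map fun i => pget7 p (pget7 q i))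

theorem Rep7.mul {σ τ : Equiv.Perm (Fin 77)} {p q : ℕ} (h : Rep7 σ p) (h' : Rep7 τ q) :
    Rep7 (σ * τ) (pmul7 p q) := fun x => by
  rw [pmul7, pget7_pack7 _ (fun a ha => by obtain ⟨i, -, rfl⟩ := List.mem_map.1 ha; exact pget7_lt _ _),
    List.getD_eq_getElem _ _ (by simpa using x.isLt), List.getElem_map, List.getElem_range, h' x, h (τ x)]
  rfl

/-- The packed identity. -/
noncomputable def pone7 : ℕ := pack7 (List.range 77)

theorem Rep7.one : Rep7 1 pone7 := fun x => by
  rw [pone7, pget7_pack7 _ (fun a ha => by have := List.mem_range.1 ha; omega),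
    List.getD_eq_getElem _ _ (by simpa using x.isLt), List.getElem_range]
  rfl

/-- The packed product of a word in packed permutations. -/
noncomputable def wordPack (pks : List ℕ) (w : List ℕ) : ℕ :=
  List.rec pone7 (fun j _ ih => pmul7 (pks.getD j pone7) ih) w

theorem rep_wordPack {pks : List ℕ} {F : ℕ → Equiv.Perm (Fin 77)} (h : ∀ j, Rep7 (F j) (pks.getD j pone7)) :
    ∀ w : List ℕ, Rep7 (w.map F).prod (wordPack pks w)
  | [] => Rep7.one
  | j :: w => by
    rw [List.map_cons, List.prod_cons]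
    exact (h j).mul (rep_wordPack h w)

/-- The set of images of the base point is as stated, and the earlier base points are fixed. -/
noncomputable def levelOK7 (pre : List ℕ) (b : ℕ) (t : List ℕ) (O : ℕ) : Bool :=
  Nat.blt b 77 && pre.all (fun c => Nat.blt c 77) && t.all (fun p => pre.all fun c => Nat.beq (pget7 p c) c) &&
    Nat.beq ((b :: t.map fun p => pget7 p b).foldr (fun x M => M ||| 1 <<< x) 0) O

/-- The number of set bits below 77. -/
noncomputable def popc7 (O : ℕ) : ℕ := ((List.range 77).filter fun i => O.testBit i).length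

/-- A chain of transversals. -/
noncomputable def chain7 (pks : List ℕ) (lv : List (List ℕ × ℕ × List (List ℕ) × ℕ)) : List ℕ → Bool :=
  List.rec (motive := fun _ => List ℕ → Bool) (fun _ => true)
    (fun l _ ih pre => l.1 == pre && levelOK7 l.1 l.2.1 (l.2.2.1.map (wordPack pks)) l.2.2.2 &&
      ih (l.2.1 :: pre)) lv

/-- The pointwise stabiliser of points given by number. -/
def fix7 (K : Subgroup (Equiv.Perm (Fin 77))) (pre : List ℕ) : Subgroup (Equiv.Perm (Fin 77)) where
  carrier := {σ | σ ∈ K ∧ ∀ x : Fin 77, x.val ∈ pre → σ x = x}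
  one_mem' := ⟨one_mem K, fun _ _ => rfl⟩
  mul_mem' := fun ⟨h1, h2⟩ ⟨h3, h4⟩ => ⟨mul_mem h1 h3, fun x hx => by
    rw [Equiv.Perm.mul_apply, h4 x hx, h2 x hx]⟩
  inv_mem' := fun ⟨h1, h2⟩ => ⟨inv_mem h1, fun x hx => by
    rw [Equiv.Perm.inv_eq_iff_eq]
    exact (h2 x hx).symm⟩

theorem mem_fix7 {K : Subgroup (Equiv.Perm (Fin 77))} {pre : List ℕ} {σ : Equiv.Perm (Fin 77)} :
    σ ∈ fix7 K pre ↔ σ ∈ K ∧ ∀ x : Fin 77, x.val ∈ pre → σ x = x := Iff.rfl

theorem testBit_foldr : ∀ (l : List ℕ) (q : ℕ), (l.foldr (fun x M => M ||| 1 <<< x) 0).testBit q = true ↔ q ∈ l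
  | [], q => by simp
  | a :: l, q => by
    rw [List.foldr_cons, Nat.testBit_or, Bool.or_eq_true, testBit_foldr l q, Nat.one_shiftLeft, Nat.testBit_two_pow,
      decide_eq_true_eq, List.mem_cons]
    constructor
    · rintro (h | h)
      · exact Or.inr h
      · exact Or.inl h.symm
    · rintro (h | h)
      · exact Or.inr h.symm
      · exact Or.inl h

theorem exists_of_level7 {K : Subgroup (Equiv.Perm (Fin 77))} {pre : List ℕ} {b : ℕ} {t : List ℕ} {O : ℕ}
    (hlev : levelOK7 pre b t O = true) (hK : ∀ p ∈ t, ∃ σ ∈ K, Rep7 σ p) {q : ℕ} (hq : O.testBit q = true) :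
    ∃ hb : b < 77, ∃ σ ∈ fix7 K pre, (σ ⟨b, hb⟩).val = q := by
  simp only [levelOK7, Bool.and_eq_true, List.all_eq_true, Nat.blt_eq] at hlev
  obtain ⟨⟨⟨hb, -⟩, hfix⟩, hO⟩ := hlev
  refine ⟨hb, ?_⟩
  rw [← Nat.eq_of_beq_eq_true hO, testBit_foldr] at hq
  rcases List.mem_cons.1 hq with rfl | hq
  · exact ⟨1, one_mem _, rfl⟩
  · obtain ⟨p, hp, rfl⟩ := List.mem_map.1 hq
    obtain ⟨σ, hσ, hr⟩ := hK p hp
    exact ⟨σ, mem_fix7.2 ⟨hσ, fun x hx => Fin.ext ((hr x).symm.trans
      (Nat.eq_of_beq_eq_true (hfix p hp x.val hx)))⟩, (hr ⟨b, hb⟩).symm⟩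

theorem chain7_le {K : Subgroup (Equiv.Perm (Fin 77))} {pks : List ℕ}
    (hK : ∀ w : List ℕ, ∃ σ ∈ K, Rep7 σ (wordPack pks w)) :
    ∀ (lv : List (List ℕ × ℕ × List (List ℕ) × ℕ)) (pre : List ℕ), chain7 pks lv pre = true →
      (lv.map fun l => popc7 l.2.2.2).prod ≤ Nat.card (fix7 K pre)
  | [], pre, _ => by
    rw [List.map_nil, List.prod_nil]
    exact Nat.one_le_iff_ne_zero.2 Nat.card_pos.ne'
  | (p, b, tr, O) :: lv, pre, h => by
    change (p == pre && levelOK7 p b (tr.map (wordPack pks)) O && chain7 pks lv (b :: pre)) = true at h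
    rw [Bool.and_eq_true, Bool.and_eq_true] at h
    obtain ⟨⟨h1, h2⟩, h3⟩ := h
    obtain rfl : p = pre := eq_of_beq h1
    have hK' : ∀ q ∈ tr.map (wordPack pks), ∃ σ ∈ K, Rep7 σ q := by
      intro q hq
      obtain ⟨w, -, rfl⟩ := List.mem_map.1 hq
      exact hK w
    set L := (List.range 77).filter fun i => O.testBit i with hL
    have hmem : ∀ i : Fin L.length, O.testBit L[i.1] = true := fun i =>
      (List.mem_filter.1 (List.getElem_mem i.2)).2
    choose hb σ hσ1 hσ2 using fun i : Fin L.length => exists_of_level7 h2 hK' (hmem i)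
    have hsub : fix7 K (b :: p) ≤ fix7 K p := fun τ hτ =>
      mem_fix7.2 ⟨(mem_fix7.1 hτ).1, fun x hx => (mem_fix7.1 hτ).2 x (List.mem_cons_of_mem _ hx)⟩
    let f : Fin L.length × fix7 K (b :: p) → fix7 K p := fun q =>
      ⟨σ q.1 * (q.2 : Equiv.Perm (Fin 77)), mul_mem (hσ1 q.1) (hsub q.2.2)⟩
    have hf : Function.Injective f := by
      intro q q' e
      have e' : σ q.1 * (q.2 : Equiv.Perm (Fin 77)) = σ q'.1 * q'.2 := congrArg Subtype.val e
      have hx : q.1 = q'.1 := by
        have hfix := fun (r : fix7 K (b :: p)) (hb : b < 77) =>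
          (mem_fix7.1 r.2).2 ⟨b, hb⟩ List.mem_cons_self
        have h5 := congrArg (fun π : Equiv.Perm (Fin 77) => (π ⟨b, hb q.1⟩).val) e'
        simp only [Equiv.Perm.mul_apply, hfix] at h5
        rw [hσ2 q.1, hσ2 q'.1] at h5
        exact Fin.ext ((List.Nodup.getElem_inj_iff (List.nodup_range.filter _)).1 h5)
      rw [hx] at e'
      exact Prod.ext hx (Subtype.ext (mul_left_cancel e'))
    have h4 := Nat.card_le_card_of_injective f hf
    rw [Nat.card_prod, Nat.card_fin] at h4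
    rw [List.map_cons, List.prod_cons]
    exact le_trans (Nat.mul_le_mul_left _ (chain7_le hK lv (b :: p) h3)) h4

theorem card_ge_of_chain {K : Subgroup (Equiv.Perm (Fin 77))} {pks : List ℕ}
    (hK : ∀ w : List ℕ, ∃ σ ∈ K, Rep7 σ (wordPack pks w)) {lv : List (List ℕ × ℕ × List (List ℕ) × ℕ)}
    (h : chain7 pks lv [] = true) : (lv.map fun l => popc7 l.2.2.2).prod ≤ Nat.card K :=
  (chain7_le hK lv [] h).trans (Subgroup.card_le_of_le fun _ hσ => (mem_fix7.1 hσ).1)

end CfsgLib.Sporadic.J4Inv
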