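import Cfsg.Agent.Lib.Sporadic.J4Inv.Cent
import Cfsg.Agent.Lib.Sporadic.J4Inv.Data
import Cfsg.Agent.Lib.Sporadic.J4Inv.PackPerm

/-!
# The action of the centraliser on 77 points (owner: helper21)
-/

set_option autoImplicit false
set_option maxRecDepth 100000

namespace CfsgLib.Sporadic.J4Inv

open Cfsg CfsgLib.Sporadic.J4Order
open CfsgLib.Sporadic.J4Rep (V runW)

theorem cg_ok : cgWords.all (fun w => okW w && eqW (w ++ eW 1295) (eW 1295 ++ w)) = true := by decide +kernel

theorem cg_mem {w : List ℕ} (hw : w ∈ cgWords) : el w ∈ cG := by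
  have h := List.all_eq_true.1 cg_ok w hw
  rw [Bool.and_eq_true] at h
  refine Subgroup.mem_inf.2 ⟨el_mem_hG (okW_iff.1 h.1), Subgroup.mem_centralizer_singleton_iff.2 ?_⟩
  have e := el_eq h.2
  rwa [el_append, el_append] at e

/-- The generators of the subgroup fixing the first point. -/
noncomputable def gensCN : List (ℕ × List ℕ × List ℕ) :=
  (List.range 11).map (fun i => (2 ^ i, [], eW (2 ^ i))) ++
    (gens6.filter fun g => !g.2.1.isEmpty).map fun g => (0, g.2.1, g.2.1)

theorem gensCN_ok : gensOK [] gensCN = true := by decide +kernel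

theorem gensCN_bound : boundOK gensCN levels6 283115520 = true := by decide +kernel

theorem gensCN_in : gensCN.all (fun g => cgWords.contains (gW g)) = true := by decide +kernel

/-- The subgroup generated by the generators. -/
noncomputable def clG : Subgroup (Equiv.Perm V) := Subgroup.closure {x | ∃ w ∈ cgWords, x = el w}

theorem clG_le : clG ≤ cG := by
  rw [clG, Subgroup.closure_le]
  rintro _ ⟨w, hw, rfl⟩
  exact cg_mem hw

theorem CN_le : nG ⊓ Subgroup.centralizer {zP} ≤ clG := by
  have hsub : dG gensCN ≤ clG := by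
    rw [dG, Subgroup.closure_le]
    rintro _ ⟨g, hg, rfl⟩
    refine Subgroup.subset_closure ⟨gW g, ?_, rfl⟩
    simpa using List.all_eq_true.1 gensCN_in g hg
  have hle : dG gensCN ≤ nG ⊓ Subgroup.centralizer {zP} :=
    le_inf (dG_le_nG gensCN_ok) ((hsub.trans clG_le).trans inf_le_right)
  have h := dG_card_ge gensCN_ok gensCN_bound
  rw [← card_CN] at h
  rw [← Subgroup.eq_of_le_of_card_ge hle h]
  exact hsub

theorem ptVecs_ok : (Nat.beq ptVecs.length 77 && (ptVecs.all fun v => Nat.blt v (2 ^ 112)) &&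
    ((List.range 77).all fun i => (List.range 77).all fun j =>
      Nat.beq i j || !Nat.beq (ptVecs.getD i 0) (ptVecs.getD j 0)) && Nat.beq (ptVecs.getD 0 0) oneVec) = true := by
  decide +kernel

/-- A point. -/
noncomputable def ptV (p : Fin 77) : V :=
  ⟨ptVecs.getD p.val 0, by
    have h := ptVecs_ok
    rw [Bool.and_eq_true, Bool.and_eq_true, Bool.and_eq_true] at h
    have hl := Nat.eq_of_beq_eq_true h.1.1.1
    rw [List.getD_eq_getElem _ _ (by rw [hl]; exact p.isLt)]
    simpa using List.all_eq_true.1 h.1.1.2 _ (List.getElem_mem _)⟩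

theorem ptV_zero : ptV 0 = oneV := by
  have h := ptVecs_ok
  rw [Bool.and_eq_true] at h
  exact Subtype.ext (Nat.eq_of_beq_eq_true h.2)

theorem ptV_injective : Function.Injective ptV := by
  intro p q e
  have h := ptVecs_ok
  rw [Bool.and_eq_true, Bool.and_eq_true] at h
  have h2 := List.all_eq_true.1 (List.all_eq_true.1 h.1.2 p.val (List.mem_range.2 p.isLt)) q.val
    (List.mem_range.2 q.isLt)
  have e' : ptVecs.getD p.val 0 = ptVecs.getD q.val 0 := congrArg Subtype.val e
  rw [e', Nat.beq_refl, Bool.not_true, Bool.or_false] at h2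
  exact Fin.ext (Nat.eq_of_beq_eq_true h2)

/-- The check of the permutation of one generator. -/
noncomputable def permOK (i : ℕ) : Bool :=
  strict (ones 77) fun o => Nat.beq (runAll tbl2 o (cgWords.getD i []) (packL ptVecs))
    (packL ((List.range 77).map fun p => ptVecs.getD (pget7 (cgPacks.getD i pone7) p) 0)) &&
  (List.range 77).all (fun p => Nat.blt (pget7 (cgPacks.getD i pone7) p) 77 &&
    Nat.blt (pget7 (cgPacks.getD (i + 14) pone7) p) 77 &&
    Nat.beq (pget7 (cgPacks.getD i pone7) (pget7 (cgPacks.getD (i + 14) pone7) p)) p)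

theorem perms_ok : (Nat.beq cgWords.length 14 && Nat.beq cgPacks.length 28 && (List.range 14).all permOK) = true := by
  decide +kernel

theorem gen_image {i : ℕ} (hi : i < 14) (p : Fin 77) :
    ∃ hlt : pget7 (cgPacks.getD i pone7) p.val < 77,
      el (cgWords.getD i []) (ptV p) = ptV ⟨pget7 (cgPacks.getD i pone7) p.val, hlt⟩ := by
  have h := perms_ok
  rw [Bool.and_eq_true, Bool.and_eq_true] at h
  have hp := List.all_eq_true.1 h.2 i (List.mem_range.2 hi)
  rw [permOK, strict_eq, Bool.and_eq_true, List.all_eq_true] at hp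
  have hb := hp.2 p.val (List.mem_range.2 p.isLt)
  rw [Bool.and_eq_true, Bool.and_eq_true, Nat.blt_eq] at hb
  refine ⟨hb.1.1, ?_⟩
  have hl := Nat.eq_of_beq_eq_true h.1.1
  have hw : cgWords.getD i [] ∈ cgWords := by
    rw [List.getD_eq_getElem _ _ (by omega)]
    exact List.getElem_mem _
  have hok := List.all_eq_true.1 cg_ok _ hw
  rw [Bool.and_eq_true] at hok
  have hpv := ptVecs_ok
  rw [Bool.and_eq_true, Bool.and_eq_true, Bool.and_eq_true] at hpv
  have hlen := Nat.eq_of_beq_eq_true hpv.1.1.1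
  have hlt : ∀ v ∈ ptVecs, v < 2 ^ 112 := fun v hv => by simpa using List.all_eq_true.1 hpv.1.1.2 v hv
  have e := runAll_eq tableOK ptVecs hlt (cgWords.getD i [])
  rw [hlen] at e
  have h3 := Nat.eq_of_beq_eq_true hp.1
  rw [e] at h3
  have h4 := packL_inj _ _ (by simp [hlen])
    (fun a ha => by obtain ⟨v, hv, rfl⟩ := List.mem_map.1 ha; exact runW_lt tableOK _ (hlt v hv))
    (fun a ha => by
      obtain ⟨q, hq, rfl⟩ := List.mem_map.1 ha
      have hq' := hp.2 q hq
      rw [Bool.and_eq_true, Bool.and_eq_true, Nat.blt_eq] at hq'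
      rw [List.getD_eq_getElem _ _ (by rw [hlen]; exact hq'.1.1)]
      exact hlt _ (List.getElem_mem _)) h3
  have h5 := List.getElem_of_eq h4 (i := p.val) (by simpa [hlen] using p.isLt)
  simp only [List.getElem_map, List.getElem_range] at h5
  refine Subtype.ext ?_
  rw [el_apply (okW_iff.1 hok.1)]
  show runW tbl2 _ (ptVecs.getD p.val 0) = ptVecs.getD (pget7 (cgPacks.getD i pone7) p.val) 0
  rw [List.getD_eq_getElem ptVecs 0 (by rw [hlen]; exact p.isLt)]
  exact h5

/-- Following the tree. -/
noncomputable def runT (es : List (ℕ × ℕ × ℕ)) : ℕ → ℕ :=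
  List.rec (motive := fun _ => ℕ → ℕ) (fun M => M)
    (fun e _ ih M => cond (M.testBit e.2.1 && Nat.blt e.2.1 77 && Nat.blt e.2.2 14 &&
      Nat.beq (pget7 (cgPacks.getD e.2.2 pone7) e.2.1) e.1) (strict (M ||| 1 <<< e.1) ih) 0) es

theorem edges_ok : Nat.beq (runT ptEdges 1) (2 ^ 77 - 1) = true := by decide +kernel

theorem gen_mem {i : ℕ} (hi : i < 14) : el (cgWords.getD i []) ∈ clG := by
  have h := perms_ok
  rw [Bool.and_eq_true, Bool.and_eq_true] at h
  have hl := Nat.eq_of_beq_eq_true h.1.1
  refine Subgroup.subset_closure ⟨_, ?_, rfl⟩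
  rw [List.getD_eq_getElem _ _ (by omega)]
  exact List.getElem_mem _

theorem runT_sound : ∀ (es : List (ℕ × ℕ × ℕ)) {M : ℕ},
    (∀ p, M.testBit p = true → ∀ h : p < 77, ∃ g ∈ clG, g oneV = ptV ⟨p, h⟩) →
      ∀ p, (runT es M).testBit p = true → ∀ h : p < 77, ∃ g ∈ clG, g oneV = ptV ⟨p, h⟩
  | [], _, hM => hM
  | (c, p, i) :: es, M, hM => by
    intro q hq hq77
    change (cond (M.testBit p && Nat.blt p 77 && Nat.blt i 14 &&
      Nat.beq (pget7 (cgPacks.getD i pone7) p) c) (strict (M ||| 1 <<< c) (runT es)) 0).testBit q = true at hq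
    cases hc : (M.testBit p && Nat.blt p 77 && Nat.blt i 14 &&
        Nat.beq (pget7 (cgPacks.getD i pone7) p) c) with
    | false => rw [hc, cond_false] at hq; simp at hq
    | true =>
      rw [hc, cond_true, strict_eq] at hq
      simp only [Bool.and_eq_true, Nat.blt_eq] at hc
      obtain ⟨⟨⟨hMp, hp⟩, hi⟩, himg⟩ := hc
      refine runT_sound es (fun r hr hr77 => ?_) q hq hq77
      rw [Nat.testBit_or, Bool.or_eq_true, Nat.one_shiftLeft, Nat.testBit_two_pow, decide_eq_true_eq] at hr
      rcases hr with hr | rfl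
      · exact hM r hr hr77
      · obtain ⟨g, hg, e⟩ := hM p hMp hp
        obtain ⟨hlt, e'⟩ := gen_image hi ⟨p, hp⟩
        refine ⟨el (cgWords.getD i []) * g, mul_mem (gen_mem hi) hg, ?_⟩
        rw [Equiv.Perm.mul_apply, e, e']
        exact congrArg ptV (Fin.ext (Nat.eq_of_beq_eq_true himg))

theorem exists_pt (n : ℕ) (h : n < 77) : ∃ g ∈ clG, g oneV = ptV ⟨n, h⟩ := by
  refine runT_sound ptEdges (M := 1) (fun p hp hp77 => ?_) n ?_ h
  · rw [show (1 : ℕ) = 2 ^ 0 from rfl, Nat.testBit_two_pow, decide_eq_true_eq] at hp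
    subst hp
    exact ⟨1, one_mem _, ptV_zero.symm⟩
  · rw [Nat.eq_of_beq_eq_true edges_ok, Nat.testBit_two_pow_sub_one]
    simpa using h

theorem clG_eq : clG = cG ∧ (∀ g ∈ cG, g oneV = oneV → g ∈ nG) := by
  have hsub : Set.range ptV ⊆ MulAction.orbit clG oneV := by
    rintro _ ⟨p, rfl⟩
    obtain ⟨g, hg, e⟩ := exists_pt p.val p.isLt
    exact ⟨⟨g, hg⟩, e⟩
  have horb : 77 ≤ Nat.card (MulAction.orbit clG oneV) := by
    rw [Nat.card_coe_set_eq]
    refine le_trans (le_of_eq ?_) (Set.ncard_le_ncard hsub (Set.toFinite _))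
    rw [Set.ncard_range_of_injective ptV_injective, Nat.card_fin]
  have hst : ((nG ⊓ Subgroup.centralizer {zP}).subgroupOf clG) ≤ MulAction.stabilizer clG oneV := fun x hx =>
    MulAction.mem_stabilizer_iff.1 (nG_le_fix hx.1)
  have hcst : 283115520 ≤ Nat.card (MulAction.stabilizer clG oneV) := by
    refine le_trans (le_of_eq ?_) (Subgroup.card_le_of_le hst)
    rw [Nat.card_congr (Subgroup.subgroupOfEquivOfLe CN_le).toEquiv, card_CN]
  have heq : Nat.card clG =
      Nat.card (MulAction.orbit clG oneV) * Nat.card (MulAction.stabilizer clG oneV) := by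
    rw [Subgroup.card_eq_card_quotient_mul_card_subgroup (MulAction.stabilizer clG oneV),
      Nat.card_congr (MulAction.orbitEquivQuotientStabilizer clG oneV)]
  have hle := Subgroup.card_le_of_le clG_le
  rw [card_cG] at hle
  have h77 : 77 * 283115520 = 21799895040 := by norm_num
  have hge : 21799895040 ≤ Nat.card clG := by
    rw [heq, ← h77]
    exact Nat.mul_le_mul horb hcst
  have e : clG = cG := Subgroup.eq_of_le_of_card_ge clG_le (by rw [card_cG]; exact hge)
  refine ⟨e, fun g hg hfix => ?_⟩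
  have h2 : Nat.card (MulAction.orbit clG oneV) * Nat.card (MulAction.stabilizer clG oneV) = 77 * 283115520 := by
    rw [← heq, h77]
    exact le_antisymm hle hge
  obtain ⟨-, hst'⟩ := le_of_mul_eq horb hcst h2 (by norm_num) (by norm_num)
  have h3 : (nG ⊓ Subgroup.centralizer {zP}).subgroupOf clG = MulAction.stabilizer clG oneV := by
    refine Subgroup.eq_of_le_of_card_ge hst ?_
    rw [Nat.card_congr (Subgroup.subgroupOfEquivOfLe CN_le).toEquiv, card_CN]
    exact hst'
  have hx : (⟨g, e.symm ▸ hg⟩ : clG) ∈ MulAction.stabilizer clG oneV := hfix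
  rw [← h3] at hx
  exact (Subgroup.mem_inf.1 hx).1

theorem range_invariant : ∀ g ∈ cG, ∀ p : Fin 77, ∃ q : Fin 77, g (ptV p) = ptV q := by
  intro g hg
  rw [← clG_eq.1] at hg
  induction hg using Subgroup.closure_induction with
  | mem y hy =>
    obtain ⟨w, hw, rfl⟩ := hy
    obtain ⟨i, hi, rfl⟩ := List.getElem_of_mem hw
    intro p
    have h := perms_ok
    rw [Bool.and_eq_true, Bool.and_eq_true] at h
    have hl := Nat.eq_of_beq_eq_true h.1.1
    obtain ⟨hlt, e⟩ := gen_image (i := i) (by omega) p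
    rw [List.getD_eq_getElem _ _ hi] at e
    exact ⟨_, e⟩
  | one => exact fun p => ⟨p, rfl⟩
  | mul a b _ _ iha ihb =>
    intro p
    obtain ⟨q, e⟩ := ihb p
    obtain ⟨r, e'⟩ := iha q
    exact ⟨r, by rw [Equiv.Perm.mul_apply, e, e']⟩
  | inv a _ iha =>
    choose f hf using iha
    have hfi : Function.Injective f := fun p q e => ptV_injective (a.injective (by rw [hf p, hf q, e]))
    intro p
    obtain ⟨q, rfl⟩ := Finite.injective_iff_surjective.1 hfi p
    exact ⟨q, by rw [← hf q, Equiv.Perm.coe_inv, Equiv.symm_apply_apply]⟩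

/-- The image of a point. -/
noncomputable def img (g : cG) (p : Fin 77) : Fin 77 := (range_invariant g g.2 p).choose

theorem img_spec (g : cG) (p : Fin 77) : (g : Equiv.Perm V) (ptV p) = ptV (img g p) :=
  (range_invariant g g.2 p).choose_spec

theorem img_mul (g h : cG) (p : Fin 77) : img (g * h) p = img g (img h p) := by
  apply ptV_injective
  rw [← img_spec, ← img_spec, ← img_spec, Subgroup.coe_mul, Equiv.Perm.mul_apply]

theorem img_one (p : Fin 77) : img 1 p = p := by
  apply ptV_injective
  rw [← img_spec]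
  rfl

/-- The action. -/
noncomputable def psi : cG →* Equiv.Perm (Fin 77) where
  toFun g :=
    { toFun := img g
      invFun := img g⁻¹
      left_inv := fun p => by rw [← img_mul, inv_mul_cancel, img_one]
      right_inv := fun p => by rw [← img_mul, mul_inv_cancel, img_one] }
  map_one' := Equiv.ext img_one
  map_mul' g h := Equiv.ext (img_mul g h)

theorem psi_spec (g : cG) (p : Fin 77) : (g : Equiv.Perm V) (ptV p) = ptV (psi g p) := img_spec g p

/-- A generator, or the inverse of one. -/
noncomputable def cgen (j : ℕ) : cG :=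
  if hj : j < 14 then ⟨el (cgWords.getD j []), clG_le (gen_mem hj)⟩
  else if hj' : j < 28 then ⟨(el (cgWords.getD (j - 14) []))⁻¹, inv_mem (clG_le (gen_mem (by omega)))⟩
  else 1

/-- The value of a word in the generators. -/
noncomputable def gw (w : List ℕ) : cG := (w.map cgen).prod

theorem rep_cgen (j : ℕ) : Rep7 (psi (cgen j)) (cgPacks.getD j pone7) := by
  unfold cgen
  split
  · rename_i hj
    intro p
    obtain ⟨hlt, e⟩ := gen_image hj p
    have e' := psi_spec ⟨el (cgWords.getD j []), clG_le (gen_mem hj)⟩ p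
    rw [e] at e'
    exact congrArg Fin.val (ptV_injective e')
  · rename_i hj
    split
    · rename_i hj'
      intro p
      have h := perms_ok
      rw [Bool.and_eq_true, Bool.and_eq_true] at h
      have hp := List.all_eq_true.1 h.2 (j - 14) (List.mem_range.2 (by omega))
      rw [permOK, strict_eq, Bool.and_eq_true, List.all_eq_true] at hp
      have hb := hp.2 p.val (List.mem_range.2 p.isLt)
      rw [Bool.and_eq_true, Bool.and_eq_true, Nat.blt_eq, Nat.blt_eq, show j - 14 + 14 = j by omega] at hb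
      obtain ⟨⟨-, hlt⟩, hinv⟩ := hb
      obtain ⟨hlt', e⟩ := gen_image (i := j - 14) (by omega) ⟨_, hlt⟩
      have e2 : el (cgWords.getD (j - 14) []) (ptV ⟨_, hlt⟩) = ptV p := by
        rw [e]
        exact congrArg ptV (Fin.ext (Nat.eq_of_beq_eq_true hinv))
      have e' := psi_spec ⟨(el (cgWords.getD (j - 14) []))⁻¹, inv_mem (clG_le (gen_mem (by omega)))⟩ p
      change (el (cgWords.getD (j - 14) []))⁻¹ (ptV p) = _ at e'
      rw [← e2, Equiv.Perm.coe_inv, Equiv.symm_apply_apply] at e'
      exact congrArg Fin.val (ptV_injective e')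
    · have h := perms_ok
      rw [Bool.and_eq_true, Bool.and_eq_true] at h
      have hl := Nat.eq_of_beq_eq_true h.1.2
      rw [List.getD_eq_default _ _ (by omega), map_one]
      exact Rep7.one

theorem rep_gw (w : List ℕ) : Rep7 (psi (gw w)) (wordPack cgPacks w) := by
  rw [gw, map_list_prod, List.map_map]
  exact rep_wordPack rep_cgen w

end CfsgLib.Sporadic.J4Inv
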