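import Cfsg.Agent.Lib.Sporadic.J4Inv.Count

/-!
# The centraliser of the involution has order 21799895040 (owner: helper21)
-/

set_option autoImplicit false
set_option maxRecDepth 100000

namespace CfsgLib.Sporadic.J4Inv

open Cfsg CfsgLib.Sporadic.J4Order
open CfsgLib.Sporadic.J4Rep (V)

/-- The centraliser of the involution in J4. -/
noncomputable def cG : Subgroup (Equiv.Perm V) := hG ⊓ Subgroup.centralizer {zP}

/-- The generators of the stabilisers. -/
noncomputable def gsList : List (List (ℕ × List ℕ × List ℕ)) :=
  [gens0, gens1, gens2, gens3, gens4, gens5, gens6]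

theorem gsList_nW : gsList.all (fun gs => gs.all fun g => nW g.2.2) = true := by decide +kernel

/-- The number of good translations in each double coset. -/
def goodNum : Fin 7 → ℕ := ![1771, 7, 0, 0, 0, 0, 1]

theorem good1 : (goodList gens1).length = 7 := by decide +kernel

theorem good6 : (goodList gens6).length = 1 := by decide +kernel

theorem good2 : (goodList gens2).length = 0 := by decide +kernel

theorem good3 : (goodList gens3).length = 0 := by decide +kernel

theorem good4 : (goodList gens4).length = 0 := by decide +kernel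

theorem good5 : (goodList gens5).length = 0 := by decide +kernel

theorem part_zero : part 0 = (nG : Set (Equiv.Perm V)) := by
  ext n
  constructor
  · rintro ⟨⟨a, ha, b, hb, rfl⟩, -⟩
    rw [rE_zero, mul_one]
    exact mul_mem ha hb
  · intro hn
    refine ⟨⟨n, hn, 1, one_mem _, by rw [rE_zero, mul_one, mul_one]⟩, ?_⟩
    simpa using zO_closed (inv_mem hn) zP_mem

theorem part_eq : ∀ j : Fin 7, (part j.val).ncard = lenOf j * goodNum j * 283115520 := by
  have hw := fun gs (h : gs ∈ gsList) => List.all_eq_true.1 gsList_nW gs h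
  intro j
  fin_cases j
  · show (part 0).ncard = _
    rw [part_zero, show ((nG : Set (Equiv.Perm V))).ncard = Nat.card nG from (Nat.card_coe_set_eq _).symm, card_nG]
    decide +kernel
  · exact (part_card (j := 1) gens1_ok (hw _ (by simp [gsList])) bound1_ok (by decide +kernel)
      (by decide +kernel)).trans (by rw [good1]; rfl)
  · exact (part_card (j := 2) gens2_ok (hw _ (by simp [gsList])) bound2_ok (by decide +kernel)
      (by decide +kernel)).trans (by rw [good2]; rfl)
  · exact (part_card (j := 3) gens3_ok (hw _ (by simp [gsList])) bound3_ok (by decide +kernel)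
      (by decide +kernel)).trans (by rw [good3]; rfl)
  · exact (part_card (j := 4) gens4_ok (hw _ (by simp [gsList])) bound4_ok (by decide +kernel)
      (by decide +kernel)).trans (by rw [good4]; rfl)
  · exact (part_card (j := 5) gens5_ok (hw _ (by simp [gsList])) bound5_ok (by decide +kernel)
      (by decide +kernel)).trans (by rw [good5]; rfl)
  · exact (part_card (j := 6) gens6_ok (hw _ (by simp [gsList])) bound6_ok (by decide +kernel)
      (by decide +kernel)).trans (by rw [good6]; rfl)

theorem dC_disjoint {i j : Fin 7} (h : i ≠ j) : Disjoint (dC i.val) (dC j.val) := by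
  have h1 := union_card {i}
  have h2 := union_card {j}
  have h3 := union_card {i, j}
  simp only [Finset.mem_singleton, Set.iUnion_iUnion_eq_left, Finset.sum_singleton] at h1 h2
  have e : (⋃ k ∈ ({i, j} : Finset (Fin 7)), dC k.val) = dC i.val ∪ dC j.val := by
    ext x
    simp
  rw [e, Finset.sum_pair h, add_mul] at h3
  rw [Set.disjoint_iff_inter_eq_empty, ← Set.ncard_eq_zero (Set.toFinite _)]
  have h4 := Set.ncard_union_add_ncard_inter (dC i.val) (dC j.val) (Set.toFinite _) (Set.toFinite _)
  rw [h1, h2, h3] at h4
  exact Nat.add_left_cancel (h4.trans (Nat.add_zero _).symm)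

theorem card_cG : Nat.card cG = 21799895040 := by
  classical
  have h := card_carry (A := hG) (S := zO) fun e he => by
    obtain ⟨n, hn, e'⟩ := zO_reach he
    exact ⟨n, nG_le_hG hn, e'⟩
  have hsplit : carry hG zO = ⋃ j ∈ (Finset.univ : Finset (Fin 7)), part j.val := by
    ext x
    simp only [carry, part, Set.mem_ofPred_eq, Set.mem_iUnion, Finset.mem_univ, exists_prop, true_and]
    constructor
    · rintro ⟨hx, hx'⟩
      obtain ⟨j, hj, hd⟩ := mem_hG_iff.1 hx
      exact ⟨⟨j, hj⟩, hd, hx'⟩
    · rintro ⟨j, hd, hx'⟩
      exact ⟨mem_hG_iff.2 ⟨j.val, j.isLt, hd⟩, hx'⟩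
  have hsum : (carry hG zO).ncard = ∑ j : Fin 7, (part j.val).ncard := by
    rw [hsplit, ← finsum_eq_sum_of_fintype]
    rw [show (⋃ j ∈ (Finset.univ : Finset (Fin 7)), part j.val) = ⋃ j : Fin 7, part j.val by simp]
    refine Set.ncard_iUnion_of_finite (fun _ => Set.toFinite _) fun i j hij => ?_
    exact (dC_disjoint hij).mono (fun x hx => hx.1) (fun x hx => hx.1)
  rw [hsum, Finset.sum_congr rfl fun j _ => part_eq j, ← Finset.sum_mul, zO_card] at h
  have e : (∑ j : Fin 7, lenOf j * goodNum j) = 1771 * 77 := by decide +kernel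
  rw [e, mul_assoc] at h
  exact (Nat.eq_of_mul_eq_mul_left (by norm_num) h).symm.trans (by norm_num)

end CfsgLib.Sporadic.J4Inv
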