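import Cfsg.Agent.Lib.Sporadic.J4Inv.Orbit

/-!
# The order of the centraliser of an involution in J4 (owner: helper21)
-/

set_option autoImplicit false
set_option maxRecDepth 40000

namespace CfsgLib.Sporadic.J4Inv

open Cfsg CfsgLib.Sporadic.J4Order
open CfsgLib.Sporadic.J4Rep (V app)
open CfsgLib.Sporadic (Rep pmul pone popc pget ix ix_lt ix_pt pt)
open scoped Pointwise

/-- Conjugation of a translation by a letter below four. -/
noncomputable def cjL (k t : ℕ) : ℕ :=
  cond (Nat.blt k 2) (app conjX t) (cond (Nat.beq k 2) (app conjY t) (app conjY (app conjY t)))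

theorem eA_cjL {k : ℕ} (hk : k < 4) {t : ℕ} (ht : t < 2048) :
    cjL k t < 2048 ∧ let2 k * eA t = eA (cjL k t) * let2 k := by
  have key : ∀ g < 2, ∀ u < 2048, xyGen g * eA u = eA (app (cjs.getD g []) u) * xyGen g := fun g hg u hu => by
    rw [← eA_conj hg hu, inv_mul_cancel_right]
  have h0 : let2 1 = let2 0 := by
    have h : eqW [1] [0] = true := by decide +kernel
    simpa [el] using el_eq h
  have h3 : let2 3 = let2 2 * let2 2 := by
    have h : eqW [3] [2, 2] = true := by decide +kernel
    simpa [el] using el_eq h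
  interval_cases k
  · exact ⟨cj_lt 0 t (by norm_num), key 0 (by norm_num) t ht⟩
  · exact ⟨cj_lt 0 t (by norm_num), by rw [h0]; exact key 0 (by norm_num) t ht⟩
  · exact ⟨cj_lt 1 t (by norm_num), key 1 (by norm_num) t ht⟩
  · refine ⟨cj_lt 1 _ (by norm_num), ?_⟩
    have hlt := cj_lt 1 t (by norm_num)
    rw [h3, mul_assoc, show let2 2 * eA t = eA (app (cjs.getD 1 []) t) * let2 2 from key 1 (by norm_num) t ht,
      ← mul_assoc, show let2 2 * eA (app (cjs.getD 1 []) t) = eA (app (cjs.getD 1 []) (app (cjs.getD 1 []) t)) * let2 2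
        from key 1 (by norm_num) _ hlt, mul_assoc]
    rfl

/-- The translation part and the image in M24 of a word. -/
noncomputable def splitW (w : List ℕ) : ℕ × ℕ :=
  List.rec (0, pone) (fun k _ ih => cond (Nat.blt k 4)
    (strict (cjL k ih.1) fun t => strict (pmul (J4Pres.pk k) ih.2) fun p => (t, p))
    (strict (ih.1 ^^^ 1 <<< (k - 6)) fun t => (t, ih.2))) w

theorem splitW_spec : ∀ {w : List ℕ}, (∀ k ∈ w, k < 4 ∨ (6 ≤ k ∧ k < 17)) →
    (splitW w).1 < 2048 ∧ ∃ g : J4Pres.K0, el w = eA (splitW w).1 * rK g ∧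
      Rep ((J4Pres.toM24 g : ↥M24) : Equiv.Perm GolayPt) (splitW w).2
  | [], _ => ⟨by norm_num [splitW], 1, by simp [splitW, el_nil, eA_zero], by simpa [splitW] using Rep.one⟩
  | k :: w, h => by
    obtain ⟨ht, g, hg, hr⟩ := splitW_spec (w := w) fun j hj => h j (List.mem_cons_of_mem _ hj)
    have hk := h k List.mem_cons_self
    change (cond (Nat.blt k 4) (strict (cjL k (splitW w).1) fun t => strict (pmul (J4Pres.pk k) (splitW w).2) fun p => (t, p))
      (strict ((splitW w).1 ^^^ 1 <<< (k - 6)) fun t => (t, (splitW w).2)) : ℕ × ℕ).1 < 2048 ∧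
      ∃ g : J4Pres.K0, el (k :: w) = eA (cond (Nat.blt k 4)
        (strict (cjL k (splitW w).1) fun t => strict (pmul (J4Pres.pk k) (splitW w).2) fun p => (t, p))
        (strict ((splitW w).1 ^^^ 1 <<< (k - 6)) fun t => (t, (splitW w).2)) : ℕ × ℕ).1 * rK g ∧
      Rep ((J4Pres.toM24 g : ↥M24) : Equiv.Perm GolayPt) (cond (Nat.blt k 4)
        (strict (cjL k (splitW w).1) fun t => strict (pmul (J4Pres.pk k) (splitW w).2) fun p => (t, p))
        (strict ((splitW w).1 ^^^ 1 <<< (k - 6)) fun t => (t, (splitW w).2)) : ℕ × ℕ).2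
    simp only [strict_eq]
    by_cases hk4 : k < 4
    · rw [show Nat.blt k 4 = true by simpa using hk4, cond_true]
      obtain ⟨h1, h2⟩ := eA_cjL hk4 ht
      refine ⟨h1, J4Pres.L k * g, ?_, ?_⟩
      · rw [el_cons, hg, ← mul_assoc, h2, map_mul, rK_L hk4, mul_assoc]
      · rw [map_mul, J4Pres.toM24_L, Subgroup.coe_mul]
        exact (J4Pres.exists_letter k).choose_spec.1.mul hr
    · rw [show Nat.blt k 4 = false from Bool.eq_false_iff.2 (by simpa using hk4), cond_false]
      obtain ⟨h6, h17⟩ := hk.resolve_left hk4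
      obtain ⟨i, rfl⟩ := Nat.exists_eq_add_of_le h6
      have hi : i < 11 := by omega
      rw [Nat.add_sub_cancel_left, Nat.one_shiftLeft]
      have h2i : 2 ^ i < 2 ^ 11 := Nat.pow_lt_pow_right (by norm_num) hi
      refine ⟨Nat.xor_lt_two_pow (n := 11) ht h2i, g, ?_, hr⟩
      show el ((6 + i) :: w) = eA ((splitW w).1 ^^^ 2 ^ i) * rK g
      rw [el_cons, hg, ← eA_unit hi, Nat.xor_comm, eA_xor, mul_assoc]

/-- Sums of translations among generators, with the conjugate words. -/
noncomputable def spanWits (gs : List (ℕ × List ℕ × List ℕ)) : List (ℕ × List ℕ) :=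
  List.rec [(0, [])] (fun g _ ih => cond g.2.1.isEmpty (ih ++ ih.map fun p => (g.1 ^^^ p.1, g.2.2 ++ p.2)) ih) gs

theorem spanWits_fst : ∀ gs : List (ℕ × List ℕ × List ℕ),
    (spanWits gs).map Prod.fst = spanOf (pureOf gs)
  | [] => rfl
  | g :: gs => by
    show (cond g.2.1.isEmpty (spanWits gs ++ (spanWits gs).map fun p => (g.1 ^^^ p.1, g.2.2 ++ p.2))
      (spanWits gs)).map Prod.fst = _
    cases h : g.2.1.isEmpty with
    | true =>
      have e : pureOf (g :: gs) = g.1 :: pureOf gs := by simp [pureOf, h]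
      rw [e, cond_true, List.map_append, List.map_map, spanWits_fst gs]
      show _ = spanOf (pureOf gs) ++ (spanOf (pureOf gs)).map fun x => g.1 ^^^ x
      rw [← spanWits_fst gs, List.map_map]
      rfl
    | false =>
      have e : pureOf (g :: gs) = pureOf gs := by simp [pureOf, h]
      rw [e, cond_false, spanWits_fst gs]

theorem spanWits_spec {r : List ℕ} {gs : List (ℕ × List ℕ × List ℕ)} (hg : gensOK r gs = true)
    (hw : gs.all (fun g => nW g.2.2) = true) :
    ∀ gs', gs' ⊆ gs → ∀ p ∈ spanWits gs',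
      (∀ k ∈ p.2, k < 4 ∨ (6 ≤ k ∧ k < 17)) ∧ (el r)⁻¹ * eA p.1 * el r = el p.2 := by
  intro gs'
  induction gs' with
  | nil =>
    intro _ p hp
    obtain rfl : p = (0, []) := by simpa [spanWits] using hp
    exact ⟨by simp, by simp [eA_zero, el_nil]⟩
  | cons g gs' ih =>
    intro hsub p hp
    obtain ⟨hgm, hsub'⟩ := List.cons_subset.1 hsub
    have ih' := ih hsub'
    change p ∈ cond g.2.1.isEmpty (spanWits gs' ++ (spanWits gs').map fun p => (g.1 ^^^ p.1, g.2.2 ++ p.2))
      (spanWits gs') at hp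
    cases h : g.2.1.isEmpty with
    | false => rw [h, cond_false] at hp; exact ih' p hp
    | true =>
      rw [h, cond_true, List.mem_append, List.mem_map] at hp
      rcases hp with hp | ⟨q, hq, rfl⟩
      · exact ih' p hp
      · obtain ⟨h1, h2⟩ := ih' q hq
        obtain ⟨ha, -, -, h4⟩ := (gensOK_spec hg).2 g hgm
        have hnw := nW_iff.1 (List.all_eq_true.1 hw g hgm)
        refine ⟨fun k hk => (List.mem_append.1 hk).elim (hnw k) (h1 k), ?_⟩
        have e : el (gW g) = eA g.1 := by
          rw [gW, el_append, List.isEmpty_iff.1 h, el_nil, mul_one]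
          rfl
        rw [e] at h4
        rw [eA_xor, el_append, ← h2, ← h4]
        group

/-- A packed permutation fixing everything. -/
noncomputable def idPack (p : ℕ) : Bool := (List.range 24).all fun i => Nat.beq (pget p i) i

theorem idPack_iff {σ : Equiv.Perm GolayPt} {p : ℕ} (h : Rep σ p) : idPack p = true ↔ σ = 1 := by
  rw [idPack, List.all_eq_true]
  refine ⟨fun h' => h.unique fun x => Nat.eq_of_beq_eq_true (h' (ix x) (List.mem_range.2 (ix_lt x))), ?_⟩
  rintro rfl i hi
  have h' := h (pt i)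
  rw [Equiv.Perm.one_apply, ix_pt (List.mem_range.1 hi)] at h'
  rw [h']
  exact Nat.beq_refl i

/-- The translations whose conjugate is in the orbit again. -/
noncomputable def goodList (gs : List (ℕ × List ℕ × List ℕ)) : List ℕ :=
  ((spanWits gs).filter fun p => oMask.testBit p.1 && strict (splitW p.2).1 (fun t => oMask.testBit t) &&
    idPack (splitW p.2).2).map Prod.fst

/-- The part of a double coset carrying `zP` into the orbit. -/
def part (j : ℕ) : Set (Equiv.Perm V) := {h | h ∈ dC j ∧ h⁻¹ * zP * h ∈ zO}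

theorem part_card {j : Fin 7} {gs : List (ℕ × List ℕ × List ℕ)} {lv : List (List ℕ × ℕ × List (List ℕ) × ℕ)}
    {lo : ℕ} (hg : gensOK (repWs.getD j.val []) gs = true) (hw : gs.all (fun g => nW g.2.2) = true)
    (hb : boundOK gs lv lo = true) (hL : lenOf j * lo = 2048 * 244823040) (hlo : 0 < lo) :
    (part j.val).ncard = lenOf j * (goodList gs).length * 283115520 := by
  classical
  set r := rE j.val with hr
  have hD : dG gs ≤ nG := dG_le_nG hg
  set D := (dG gs).subgroupOf nG with hDdef
  have hDc : Nat.card D = Nat.card (dG gs) := Nat.card_congr (Subgroup.subgroupOfEquivOfLe hD).toEquiv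
  let f : (nG ⧸ D) × nG → Equiv.Perm V := fun q => (q.1.out : Equiv.Perm V) * r * q.2
  have hconj : ∀ d ∈ dG gs, r⁻¹ * d * r ∈ nG := fun d hd => conj_mem_nG hg hd
  have houtD : ∀ a : nG, ((QuotientGroup.mk a : nG ⧸ D).out : Equiv.Perm V)⁻¹ * a ∈ dG gs := fun a =>
    (QuotientGroup.eq.1 (Quotient.out_eq (QuotientGroup.mk a : nG ⧸ D)) :
      ((QuotientGroup.mk a : nG ⧸ D).out)⁻¹ * a ∈ D)
  have hrange : Set.range f = dC j.val := by
    ext x
    constructor
    · rintro ⟨⟨q, m⟩, rfl⟩
      exact ⟨_, q.out.2, _, m.2, rfl⟩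
    · rintro ⟨a, ha, b, hb, rfl⟩
      refine ⟨(QuotientGroup.mk ⟨a, ha⟩, ⟨_, mul_mem (hconj _ (houtD ⟨a, ha⟩)) hb⟩), ?_⟩
      show _ * r * (r⁻¹ * (_ * a) * r * b) = a * r * b
      group
  have hcount : (dC j.val).ncard = lenOf j * Nat.card nG := by
    have h := union_card {j}
    rw [Finset.sum_singleton] at h
    simpa using h
  have hlo' := dG_card_ge hg hb
  have hdom : Nat.card ((nG ⧸ D) × nG) = lenOf j * Nat.card nG ∧ Nat.card (dG gs) = lo := by
    rw [Nat.card_prod]
    have h1 := Subgroup.card_eq_card_quotient_mul_card_subgroup D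
    rw [hDc, card_nG] at h1
    have h2 : lenOf j ≤ Nat.card (nG ⧸ D) := by
      have h := Finite.card_range_le f
      rw [hrange, Nat.card_coe_set_eq, hcount, Nat.card_prod] at h
      exact Nat.le_of_mul_le_mul_right h Nat.card_pos
    obtain ⟨h3, h4⟩ := le_of_mul_eq h2 hlo' (h1.symm.trans hL.symm)
      (Nat.pos_of_ne_zero fun h0 => by rw [h0, zero_mul] at hL; norm_num at hL) hlo
    exact ⟨by rw [le_antisymm h3 h2], le_antisymm h4 hlo'⟩
  have hf : Function.Injective f := by
    intro a b h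
    by_contra hne
    have h1 : Nat.card (Set.range f) = Nat.card ((nG ⧸ D) × nG) := by
      rw [hrange, Nat.card_coe_set_eq, hcount, hdom.1]
    have hsurj : Function.Surjective (Set.rangeFactorization f) := Set.rangeFactorization_surjective
    have hbij := hsurj.bijective_of_nat_card_le (le_of_eq h1.symm)
    exact hne (hbij.injective (Subtype.ext h))
  -- membership
  have hinter : ∀ n ∈ nG, r⁻¹ * n * r ∈ nG → n ∈ dG gs := by
    intro n hn hm
    have h1 : f (QuotientGroup.mk 1, ⟨_, hconj _ (houtD 1)⟩) =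
        f (QuotientGroup.mk ⟨n, hn⟩,
          ⟨_, mul_mem (hconj _ (houtD ⟨n, hn⟩)) (inv_mem hm)⟩) := by
      show _ * r * (r⁻¹ * (_ * (1 : Equiv.Perm V)) * r) = _ * r * (r⁻¹ * (_ * n) * r * (r⁻¹ * n * r)⁻¹)
      group
    have h2 := congrArg Prod.fst (hf h1)
    have h3 : (1 : nG)⁻¹ * ⟨n, hn⟩ ∈ D := QuotientGroup.eq.1 h2
    rw [inv_one, one_mul] at h3
    exact h3
  obtain ⟨hnd, hspan, hlo2, hA, hB⟩ := dG_card_split hg hb
  rw [hdom.2] at hB
  have hgood : ∀ e, e ∈ zO ∧ r⁻¹ * e * r ∈ zO ↔ e ∈ (eA '' {a | a ∈ goodList gs}) := by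
    intro e
    constructor
    · rintro ⟨he, he'⟩
      have heD : e ∈ dG gs := hinter e (eG_le_nG (zO_sub he)) (eG_le_nG (zO_sub he'))
      have hall : ∃ s ∈ spanOf (pureOf gs), eA s = e := by
        by_contra hne
        push Not at hne
        let g : Option (Fin (spanOf (pureOf gs)).length) → ↥(dG gs ⊓ eG) := fun o => o.elim
          ⟨e, heD, zO_sub he⟩
          fun i => ⟨eA (spanOf (pureOf gs))[i.1], (hspan _ (List.getElem_mem _)).2,
            eA_mem (hspan _ (List.getElem_mem _)).1⟩
        have hginj : Function.Injective g := by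
          rintro (_ | i) (_ | k) h
          · rfl
          · exact absurd (congrArg Subtype.val h).symm (hne _ (List.getElem_mem _))
          · exact absurd (congrArg Subtype.val h) (hne _ (List.getElem_mem _))
          · exact congrArg some (Fin.ext ((List.Nodup.getElem_inj_iff hnd).1
              (eA_inj (hspan _ (List.getElem_mem _)).1 (hspan _ (List.getElem_mem _)).1 (congrArg Subtype.val h))))
        have hg' := Nat.card_le_card_of_injective g hginj
        rw [Finite.card_option, Nat.card_fin] at hg'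
        have hP : 0 < (lv.map fun l => popc l.2.2.2).prod := by
          rcases Nat.eq_zero_or_pos (lv.map fun l => popc l.2.2.2).prod with h0 | h0
          · rw [h0, mul_zero] at hlo2; omega
          · exact h0
        have := Nat.mul_le_mul_right (lv.map fun l => popc l.2.2.2).prod hg'
        rw [add_mul, one_mul, ← hlo2] at this
        omega
      obtain ⟨s, hs, rfl⟩ := hall
      rw [← spanWits_fst, List.mem_map] at hs
      obtain ⟨p, hp, rfl⟩ := hs
      obtain ⟨hp1, hp2⟩ := spanWits_spec hg hw gs (fun _ h => h) p hp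
      obtain ⟨hp1lt, g, hgw, hrep⟩ := splitW_spec hp1
      change (el (repWs.getD j.val []))⁻¹ * eA p.1 * el (repWs.getD j.val []) ∈ zO at he'
      rw [hp2, hgw] at he'
      have hg1 : g = 1 := (split_unique (one_mem eG) (mul_mem (inv_mem (eA_mem hp1lt)) (zO_sub he')) (g := g) (g' := 1)
        (by rw [map_one, mul_one, one_mul, inv_mul_cancel_left])).2
      subst hg1
      rw [map_one, mul_one] at he'
      have hpk : idPack (splitW p.2).2 = true := (idPack_iff hrep).2 (by rw [map_one, OneMemClass.coe_one])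
      refine ⟨p.1, List.mem_map.2 ⟨p, List.mem_filter.2 ⟨hp, ?_⟩, rfl⟩, rfl⟩
      have hp0 : p.1 < 2048 := (hspan p.1 (by rw [← spanWits_fst]; exact List.mem_map_of_mem hp)).1
      rw [(mem_zO hp0).1 he, strict_eq, (mem_zO hp1lt).1 he', hpk]
      rfl
    · rintro ⟨a, ha, rfl⟩
      obtain ⟨p, hp, rfl⟩ := List.mem_map.1 ha
      rw [List.mem_filter, Bool.and_eq_true, Bool.and_eq_true, strict_eq] at hp
      obtain ⟨hp, ⟨h1, h2⟩, h3⟩ := hp
      refine ⟨⟨p.1, h1, rfl⟩, ?_⟩
      obtain ⟨hp1, hp2⟩ := spanWits_spec hg hw gs (fun _ h => h) p hp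
      obtain ⟨-, g, hgw, hrep⟩ := splitW_spec hp1
      have hg1 : g = 1 := J4Pres.toM24_injective (Subtype.ext (by
        rw [map_one, OneMemClass.coe_one]; exact (idPack_iff hrep).1 h3))
      show (el (repWs.getD j.val []))⁻¹ * eA p.1 * el (repWs.getD j.val []) ∈ zO
      rw [hp2, hgw, hg1, map_one, mul_one]
      exact ⟨_, h2, rfl⟩
  set G := eA '' {a | a ∈ goodList gs} with hG
  have hGc : G.ncard = (goodList gs).length := by
    have hsub : ∀ a ∈ goodList gs, a ∈ spanOf (pureOf gs) := fun a ha => by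
      rw [← spanWits_fst]
      obtain ⟨p, hp, rfl⟩ := List.mem_map.1 ha
      exact List.mem_map_of_mem (List.mem_filter.1 hp).1
    have hnd' : (goodList gs).Nodup := by
      refine List.Nodup.sublist ?_ (spanWits_fst gs ▸ hnd)
      exact List.Sublist.map _ List.filter_sublist
    rw [hG, show {a | a ∈ goodList gs} = ((goodList gs).toFinset : Set ℕ) by ext; simp,
      Set.InjOn.ncard_image (fun a ha b hb e => eA_inj (hspan a (hsub a (by simpa using ha))).1
        (hspan b (hsub b (by simpa using hb))).1 e),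
      Set.ncard_coe_finset, List.toFinset_card_of_nodup hnd']
  -- the classes
  have hcar := card_carry (A := nG) (S := G) fun e he => zO_reach ((hgood e).2 he).1
  rw [hGc, card_CN] at hcar
  let T : Set (nG ⧸ D) := {q | (q.out : Equiv.Perm V)⁻¹ * zP * q.out ∈ G}
  have hinv : ∀ a : nG, (QuotientGroup.mk a : nG ⧸ D) ∈ T ↔ (a : Equiv.Perm V)⁻¹ * zP * a ∈ G := by
    intro a
    set q : nG ⧸ D := QuotientGroup.mk a with hq
    have hd := houtD a
    set d := (q.out : Equiv.Perm V)⁻¹ * a with hddef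
    have key : ∀ d ∈ dG gs, ∀ e, e ∈ G → d⁻¹ * e * d ∈ G := by
      intro d hd e he
      obtain ⟨h1, h2⟩ := (hgood e).2 he
      refine (hgood _).1 ⟨?_, ?_⟩
      · simpa using zO_closed (inv_mem (hD hd)) h1
      · have h3 := zO_closed (inv_mem (hconj d hd)) h2
        rw [inv_inv] at h3
        convert h3 using 1
        group
    constructor
    · intro h
      have := key d hd _ h
      convert this using 1
      rw [hddef]
      group
    · intro h
      have := key d⁻¹ (inv_mem hd) _ h
      show (q.out : Equiv.Perm V)⁻¹ * zP * q.out ∈ G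
      convert this using 1
      rw [hddef]
      group
  have hT : T.ncard * lo = (goodList gs).length * 283115520 := by
    rw [← hcar, ← hdom.2, ← hDc, mul_comm, ← Nat.card_coe_set_eq, ← Nat.card_prod,
      ← Nat.card_congr (QuotientGroup.preimageMkEquivSubgroupProdSet D T)]
    have e : carry nG G = (Subtype.val : nG → Equiv.Perm V) '' (QuotientGroup.mk ⁻¹' T) := by
      ext n
      refine ⟨fun h => ⟨⟨n, h.1⟩, (hinv _).2 h.2, rfl⟩, ?_⟩
      rintro ⟨a, ha, rfl⟩
      exact ⟨a.2, (hinv a).1 ha⟩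
    rw [e, Set.ncard_image_of_injective _ Subtype.val_injective, Nat.card_coe_set_eq]
  have hpart : part j.val = f '' (T ×ˢ Set.univ) := by
    ext x
    constructor
    · rintro ⟨hx, hx'⟩
      rw [← hrange] at hx
      obtain ⟨⟨q, m⟩, rfl⟩ := hx
      refine ⟨(q, m), ⟨(hgood _).1 ⟨?_, ?_⟩, trivial⟩, rfl⟩
      · simpa using zO_closed (inv_mem (show (q.out : Equiv.Perm V) ∈ nG from q.out.2)) zP_mem
      · have h := zO_closed m.2 hx'
        convert h using 1
        show r⁻¹ * ((q.out : Equiv.Perm V)⁻¹ * zP * q.out) * r = (m : Equiv.Perm V) *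
          (((q.out : Equiv.Perm V) * r * m)⁻¹ * zP * ((q.out : Equiv.Perm V) * r * m)) * (m : Equiv.Perm V)⁻¹
        group
    · rintro ⟨⟨q, m⟩, ⟨hq, -⟩, rfl⟩
      refine ⟨hrange ▸ Set.mem_range_self _, ?_⟩
      have h := zO_closed (inv_mem m.2) ((hgood _).2 hq).2
      convert h using 1
      show ((q.out : Equiv.Perm V) * r * m)⁻¹ * zP * ((q.out : Equiv.Perm V) * r * m) = _
      group
  rw [hpart, Set.ncard_image_of_injective _ hf, Set.ncard_prod, Set.ncard_univ, card_nG, ← hL, mul_comm (lenOf j) lo,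
    ← mul_assoc, hT, mul_comm _ (lenOf j), mul_assoc]

end CfsgLib.Sporadic.J4Inv
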