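import Cfsg.Agent.Lib.Sporadic.J4Inv.SimplePart
import Cfsg.Agent.Lib.Sporadic.J4Order.Simple
import Cfsg.Prelude.Def_Sporadic

/-!
# The structure of the involution centraliser (owner: helper21)
-/

set_option autoImplicit false
set_option maxRecDepth 100000

namespace CfsgLib.Sporadic.J4Inv

open Cfsg CfsgLib.Sporadic.J4Order
open CfsgLib.Sporadic.J4Rep (V)

theorem extraspecial_transfer {E F : Type*} [Group E] [Group F] [Finite E] {p : ℕ} [Fact p.Prime]
    (hE : IsExtraspecial p E) (e : E ≃* F) : IsExtraspecial p F := by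
  haveI : Finite F := Finite.of_equiv E e.toEquiv
  have hc : ∀ x : E, e x ∈ Subgroup.center F ↔ x ∈ Subgroup.center E := by
    intro x
    rw [Subgroup.mem_center_iff, Subgroup.mem_center_iff]
    constructor
    · intro hx y; apply e.injective; rw [map_mul, map_mul]; exact hx (e y)
    · intro hx y; obtain ⟨y, rfl⟩ := e.surjective y; rw [← map_mul, ← map_mul, hx y]
  refine CfsgLib.PGroups.isExtraspecial_of (hE.1.1.of_equiv e) ?_ ?_ ?_ ?_
  · intro hcomm
    exact CfsgLib.PGroups.IsExtraspecial.not_comm hE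
      ⟨⟨fun a b => e.injective (by rw [map_mul, map_mul]; exact hcomm.1.1 _ _)⟩⟩
  · rw [← hE.2]
    refine (Nat.card_congr (e.toEquiv.subtypeEquiv fun x => (hc x).symm)).symm
  · rw [commutator_def, Subgroup.commutator_le]
    intro a _ b _
    obtain ⟨a, rfl⟩ := e.surjective a
    obtain ⟨b, rfl⟩ := e.surjective b
    rw [← map_commutatorElement, hc]
    exact CfsgLib.PGroups.IsExtraspecial.comm_mem hE a b
  · intro x
    obtain ⟨x, rfl⟩ := e.surjective x
    rw [← map_pow, hc]
    exact CfsgLib.PGroups.IsExtraspecial.pow_mem_center hE x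

theorem isM22_quotient {G K : Type*} [Group G] [Group K] [Finite G] (f : G →* K) (hs : IsSimpleGroup f.range)
    (hc : Nat.card f.range = 443520) (N : Subgroup G) (hN : N = f.ker) :
    ∃ (_ : N.Normal), Cfsg.IsM22 (G ⧸ N) := by
  subst hN
  refine ⟨MonoidHom.normal_ker f, ?_, ?_⟩
  · haveI := hs
    haveI : Nontrivial (G ⧸ f.ker) := (QuotientGroup.quotientKerEquivRange f).toEquiv.nontrivial
    exact (QuotientGroup.quotientKerEquivRange f).isSimpleGroup
  · rw [Nat.card_congr (QuotientGroup.quotientKerEquivRange f).toEquiv, hc]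

theorem structure_of_equiv {H K : Type*} [Group H] [Group K] [Finite H] {C : Subgroup H} {D : Type*} [Group D]
    (e : C ≃* D) (f : D →* K) (M : Subgroup D) (Q : Subgroup D) (hQn : Q.Normal) (hQ : Q ≤ f.ker) (hM : f.ker ≤ M)
    (hQ2 : Cfsg.IsExtraspecial 2 Q) (hQc : Nat.card Q = 2 ^ 13) (hNc : Nat.card f.ker = 3 * 2 ^ 13)
    (hMi : M.index = 2) (hs : IsSimpleGroup (M.map f)) (hc : Nat.card (M.map f) = 443520) :
    ∃ (Q' N' M' : Subgroup C), Q'.Normal ∧ N'.Normal ∧ Q' ≤ N' ∧ N' ≤ M' ∧ Nat.card Q' = 2 ^ 13 ∧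
      Cfsg.IsExtraspecial 2 Q' ∧ Nat.card N' = 3 * 2 ^ 13 ∧ M'.index = 2 ∧
        ∃ (_ : (N'.subgroupOf M').Normal), Cfsg.IsM22 (M' ⧸ N'.subgroupOf M') := by
  haveI : Fact (Nat.Prime 2) := ⟨by norm_num⟩
  have hcq : ∀ S : Subgroup D, Nonempty (S ≃* S.comap e.toMonoidHom) := fun S =>
    ⟨{ toFun := fun x => ⟨e.symm x.1, by
          show e (e.symm x.1) ∈ S
          rw [e.apply_symm_apply]
          exact x.2⟩
       invFun := fun y => ⟨e y.1, y.2⟩
       left_inv := fun x => Subtype.ext (e.apply_symm_apply x.1)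
       right_inv := fun y => Subtype.ext (e.symm_apply_apply y.1)
       map_mul' := fun x y => Subtype.ext (map_mul e.symm x.1 y.1) }⟩
  obtain ⟨eQ⟩ := hcq Q
  obtain ⟨eN⟩ := hcq f.ker
  haveI : Finite D := Finite.of_equiv C e.toEquiv
  refine ⟨Q.comap e.toMonoidHom, f.ker.comap e.toMonoidHom, M.comap e.toMonoidHom, hQn.comap _,
    (MonoidHom.normal_ker f).comap _, Subgroup.comap_mono hQ, Subgroup.comap_mono hM,
    (Nat.card_congr eQ.toEquiv).symm.trans hQc, extraspecial_transfer hQ2 eQ,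
    (Nat.card_congr eN.toEquiv).symm.trans hNc, ?_, ?_⟩
  · rw [Subgroup.index_comap_of_surjective _ e.surjective]
    exact hMi
  · let g : M.comap e.toMonoidHom →* K := (f.comp e.toMonoidHom).comp (M.comap e.toMonoidHom).subtype
    have hr : g.range = M.map f := by
      show ((f.comp e.toMonoidHom).comp (M.comap e.toMonoidHom).subtype).range = _
      rw [MonoidHom.range_comp, Subgroup.range_subtype, ← Subgroup.map_map,
        Subgroup.map_comap_eq_self_of_surjective e.surjective]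
    exact isM22_quotient g (hr ▸ hs) (hr ▸ hc) _ rfl

/-- J4 has an involution with centraliser 2^(1+12).3.M22.2. -/
theorem exists_involution_structure : ∃ (G : Type) (_ : Group G) (_ : Finite G), Cfsg.IsJ4 G ∧ ∃ z : G, orderOf z = 2 ∧
    ∃ (Q N M : Subgroup (Subgroup.centralizer ({z} : Set G))), Q.Normal ∧ N.Normal ∧ Q ≤ N ∧ N ≤ M ∧
      Nat.card Q = 2 ^ 13 ∧ Cfsg.IsExtraspecial 2 Q ∧ Nat.card N = 3 * 2 ^ 13 ∧ M.index = 2 ∧
        ∃ (_ : (N.subgroupOf M).Normal), Cfsg.IsM22 (M ⧸ N.subgroupOf M) := by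
  have hzH : zP ∈ hG := zP_mem_cG.1
  refine ⟨↥hG, inferInstance, inferInstance, ⟨hG_simple, card_hG⟩, ⟨zP, hzH⟩, ?_, ?_⟩
  · haveI : Fact (Nat.Prime 2) := ⟨by norm_num⟩
    refine orderOf_eq_prime (Subtype.ext ?_) fun h => zEl_ne (Subtype.ext (congrArg (Subtype.val : hG → _) h))
    rw [pow_two, Subgroup.coe_mul]
    exact congrArg Subtype.val zEl_sq
  · let e : Subgroup.centralizer ({⟨zP, hzH⟩} : Set hG) ≃* cG :=
      { toFun := fun x => ⟨x.1.1, Subgroup.mem_inf.2 ⟨x.1.2, Subgroup.mem_centralizer_singleton_iff.2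
          (congrArg Subtype.val (Subgroup.mem_centralizer_singleton_iff.1 x.2))⟩⟩
        invFun := fun y => ⟨⟨y.1, y.2.1⟩, Subgroup.mem_centralizer_singleton_iff.2
          (Subtype.ext (Subgroup.mem_centralizer_singleton_iff.1 y.2.2))⟩
        left_inv := fun x => rfl
        right_inv := fun y => rfl
        map_mul' := fun x y => rfl }
    exact structure_of_equiv e psi mG qG qG_normal qG_le_ker ker_le_mG qG_extraspecial
      (ker_facts.2.1.trans (by norm_num)) (ker_facts.1.trans (by norm_num)) mG_index sImg_simple sImg_card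

end CfsgLib.Sporadic.J4Inv
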