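import Cfsg.Agent.Lib.PGroups.Extraspecial

/-!
# A group generated by six commuting pairs of generators with a common commutator (owner: helper21)
-/

set_option autoImplicit false

namespace CfsgLib.Sporadic.J4Inv

/-- The partner of a generator. -/
def partner (i : Fin 12) : Fin 12 := ![1, 0, 3, 2, 5, 4, 7, 6, 9, 8, 11, 10] i

theorem partner_partner : ∀ i : Fin 12, partner (partner i) = i := by decide

theorem sq_mult : ∀ v : Multiplicative (ZMod 2), v ^ 2 = 1 := by decide

theorem pairs_facts {G : Type*} [Group G] [Finite G] {z : G} {q : Fin 12 → G} (hz : z * z = 1) (hz1 : z ≠ 1)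
    (hzc : ∀ i, Commute z (q i))
    (hcomm : ∀ i j, q i * q j = q j * q i * (if j = partner i then z else 1)) :
    z ∈ Subgroup.closure (Set.range q) ∧
    (∃ k, Nat.card (Subgroup.closure (Set.range q)) = 4096 * (2 * k)) ∧
    (Nat.card (Subgroup.closure (Set.range q)) = 8192 →
      Cfsg.IsExtraspecial 2 (Subgroup.closure (Set.range q))) ∧
    ∀ x ∈ Subgroup.closure (Set.range q), ∀ i, x * x * q i = q i * (x * x) := by
  classical
  set P := Subgroup.closure (Set.range q) with hP
  have hq : ∀ i, q i ∈ P := fun i => Subgroup.subset_closure ⟨i, rfl⟩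
  have hzinv : z⁻¹ = z := inv_eq_of_mul_eq_one_right hz
  have hzP : z ∈ P := by
    have h := hcomm 0 1
    rw [if_pos (by decide)] at h
    have : z = (q 1 * q 0)⁻¹ * (q 0 * q 1) := by rw [h, inv_mul_cancel_left]
    rw [this]
    exact mul_mem (inv_mem (mul_mem (hq 1) (hq 0))) (mul_mem (hq 0) (hq 1))
  have hzall : ∀ x ∈ P, Commute z x := by
    intro x hx
    induction hx using Subgroup.closure_induction with
    | mem y hy => obtain ⟨i, rfl⟩ := hy; exact hzc i
    | one => exact Commute.one_right z
    | mul a b _ _ iha ihb => exact iha.mul_right ihb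
    | inv a _ iha => exact iha.inv_right
  have htwo : ∀ x ∈ P, ∀ i, x * q i = q i * x ∨ x * q i = q i * x * z := by
    intro x hx
    induction hx using Subgroup.closure_induction with
    | mem y hy =>
      obtain ⟨j, rfl⟩ := hy
      intro i
      rw [hcomm j i]
      split
      · exact Or.inr rfl
      · exact Or.inl (mul_one _)
    | one => exact fun i => Or.inl (by simp)
    | mul a b ha hb iha ihb =>
      intro i
      have hza := (hzall a ha).eq
      have hzb := (hzall b hb).eq
      rcases iha i with h1 | h1 <;> rcases ihb i with h2 | h2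
      · left; rw [mul_assoc, h2, ← mul_assoc, h1, mul_assoc]
      · right; rw [mul_assoc, h2, ← mul_assoc, ← mul_assoc, h1, mul_assoc (q i)]
      · right; rw [mul_assoc, h2, ← mul_assoc, h1, mul_assoc (q i * a) z b, hzb, ← mul_assoc, mul_assoc (q i)]
      · left; rw [mul_assoc, h2, ← mul_assoc, ← mul_assoc, h1, mul_assoc (q i * a) z b, hzb, ← mul_assoc,
          mul_assoc _ z z, hz, mul_one, mul_assoc]
    | inv a ha iha =>
      intro i
      have hza := (hzall a⁻¹ (inv_mem ha)).eq
      rcases iha i with h | h
      · left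
        rw [inv_mul_eq_iff_eq_mul, ← mul_assoc, h, mul_inv_cancel_right]
      · right
        rw [inv_mul_eq_iff_eq_mul, ← mul_assoc, ← mul_assoc, h, mul_assoc (q i * a) z a⁻¹, hza, ← mul_assoc,
          mul_inv_cancel_right, mul_assoc, hz, mul_one]
  have hne : ∀ (x : P) i, (x : G) * q i = q i * x * z → ¬ (x : G) * q i = q i * x := by
    intro x i h h'
    rw [h'] at h
    exact hz1 (mul_eq_left.1 h.symm)
  let φ : P →* (Fin 12 → Multiplicative (ZMod 2)) :=
    { toFun := fun x i => if (x : G) * q i = q i * x then 1 else Multiplicative.ofAdd 1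
      map_one' := by funext i; simp
      map_mul' := by
        intro a b
        funext i
        have hzb := (hzall b b.2).eq
        show (if ((a : G) * b) * q i = q i * (a * b) then 1 else Multiplicative.ofAdd (1 : ZMod 2)) =
          (if (a : G) * q i = q i * a then 1 else Multiplicative.ofAdd (1 : ZMod 2)) *
            (if (b : G) * q i = q i * b then 1 else Multiplicative.ofAdd (1 : ZMod 2))
        rcases htwo a a.2 i with h1 | h1 <;> rcases htwo b b.2 i with h2 | h2
        · rw [if_pos h1, if_pos h2, if_pos (by rw [mul_assoc, h2, ← mul_assoc, h1, mul_assoc]), one_mul]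
        · rw [if_pos h1, if_neg (hne b i h2), if_neg, one_mul]
          refine hne (a * b) i ?_
          rw [Subgroup.coe_mul, mul_assoc, h2, ← mul_assoc, ← mul_assoc, h1, mul_assoc (q i)]
        · rw [if_neg (hne a i h1), if_pos h2, if_neg, mul_one]
          refine hne (a * b) i ?_
          rw [Subgroup.coe_mul, mul_assoc, h2, ← mul_assoc, h1, mul_assoc (q i * (a : G)) z b, hzb, ← mul_assoc,
            mul_assoc (q i)]
        · rw [if_neg (hne a i h1), if_neg (hne b i h2), if_pos]
          · decide
          · rw [mul_assoc, h2, ← mul_assoc, ← mul_assoc, h1, mul_assoc (q i * (a : G)) z b, hzb, ← mul_assoc,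
              mul_assoc _ z z, hz, mul_one, mul_assoc] }
  have hφ : ∀ (x : P) i, φ x i = 1 ↔ (x : G) * q i = q i * x := by
    intro x i
    show (if (x : G) * q i = q i * x then 1 else Multiplicative.ofAdd (1 : ZMod 2)) = 1 ↔ _
    constructor
    · intro h
      by_contra h'
      rw [if_neg h'] at h
      exact absurd h (by decide)
    · exact fun h => if_pos h
  have hsurj : Function.Surjective φ := by
    rw [← MonoidHom.range_eq_top, eq_top_iff]
    intro f _
    refine Subgroup.pi_mem_of_mulSingle_mem f fun i => ?_
    have key : (Pi.mulSingle i (f i) : Fin 12 → Multiplicative (ZMod 2)) = φ ⟨q (partner i), hq _⟩ ∨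
        (Pi.mulSingle i (f i) : Fin 12 → Multiplicative (ZMod 2)) = 1 := by
      have hval : ∀ v : Multiplicative (ZMod 2), v = Multiplicative.ofAdd (1 : ZMod 2) ∨ v = 1 := by decide
      rcases hval (f i) with h | h
      · left
        funext j
        show _ = if q (partner i) * q j = q j * q (partner i) then (1 : Multiplicative (ZMod 2)) else _
        by_cases hj : j = i
        · subst hj
          rw [Pi.mulSingle_eq_same, if_neg, h]
          rw [hcomm (partner j) j, if_pos (partner_partner j).symm]
          intro h'
          exact hz1 (mul_eq_left.1 h')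
        · rw [Pi.mulSingle_eq_of_ne hj, if_pos]
          rw [hcomm (partner i) j, if_neg (by rw [partner_partner]; exact hj), mul_one]
      · right; rw [h, Pi.mulSingle_one]
    rcases key with h | h <;> rw [h]
    · exact ⟨_, rfl⟩
    · exact one_mem _
  have hker : φ.ker = Subgroup.center P := by
    ext x
    rw [MonoidHom.mem_ker, Subgroup.mem_center_iff]
    constructor
    · intro h y
      apply Subtype.ext
      show (y : G) * x = x * y
      have hx : ∀ i, (x : G) * q i = q i * x := fun i => (hφ x i).1 (congrFun h i)
      obtain ⟨y, hy⟩ := y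
      show y * (x : G) = x * y
      have hc : Commute (x : G) y := by
        induction hy using Subgroup.closure_induction with
        | mem w hw => obtain ⟨i, rfl⟩ := hw; exact hx i
        | one => exact Commute.one_right _
        | mul a b _ _ iha ihb => exact iha.mul_right ihb
        | inv a _ iha => exact iha.inv_right
      exact hc.eq.symm
    · intro h
      funext i
      exact (hφ x i).2 (congrArg Subtype.val (h ⟨q i, hq i⟩)).symm
  have hcard : Nat.card P = 4096 * Nat.card φ.ker := by
    rw [Subgroup.card_eq_card_quotient_mul_card_subgroup φ.ker,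
      Nat.card_congr (QuotientGroup.quotientKerEquivOfSurjective φ hsurj).toEquiv]
    congr 1
    rw [Nat.card_pi]
    simp
  have heven : 2 ∣ Nat.card φ.ker := by
    have hzk : (⟨z, hzP⟩ : P) ∈ φ.ker := by
      rw [hker, Subgroup.mem_center_iff]
      exact fun y => Subtype.ext (hzall y y.2).eq.symm
    have ho : orderOf (⟨⟨z, hzP⟩, hzk⟩ : φ.ker) = 2 := by
      rw [Subgroup.orderOf_mk, Subgroup.orderOf_mk]
      exact orderOf_eq_prime (by rw [pow_two, hz]) hz1
    have h := orderOf_dvd_natCard (⟨⟨z, hzP⟩, hzk⟩ : φ.ker)
    rwa [ho] at h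
  refine ⟨hzP, ?_, fun h => ?_, ?_⟩
  · obtain ⟨k, hk⟩ := heven
    exact ⟨k, by rw [hcard, hk]⟩
  · have hk : Nat.card φ.ker = 2 := by omega
    haveI : Fact (Nat.Prime 2) := ⟨by norm_num⟩
    refine CfsgLib.PGroups.isExtraspecial_of (IsPGroup.of_card (n := 13) (by rw [h]; norm_num)) ?_ (hker ▸ hk) ?_ ?_
    · intro hab
      have hc := hab.is_comm.comm (⟨q 0, hq 0⟩ : P) ⟨q 1, hq 1⟩
      have h' : q 0 * q 1 = q 1 * q 0 := congrArg Subtype.val hc
      rw [hcomm 0 1, if_pos (by decide)] at h'
      exact hz1 (mul_eq_left.1 h')
    · rw [← hker, commutator_def, Subgroup.commutator_le]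
      intro a _ b _
      rw [MonoidHom.mem_ker, map_commutatorElement, commutatorElement_eq_one_iff_mul_comm]
      exact mul_comm _ _
    · intro x
      rw [← hker, MonoidHom.mem_ker, map_pow]
      funext i
      rw [Pi.pow_apply, Pi.one_apply]
      exact sq_mult _
  · intro x hx i
    rcases htwo x hx i with h | h
    · rw [mul_assoc, h, ← mul_assoc, h, mul_assoc]
    · rw [mul_assoc, h, ← mul_assoc, ← mul_assoc, h, mul_assoc (q i * x) z x, (hzall x hx).eq, ← mul_assoc,
        mul_assoc _ z z, hz, mul_one, mul_assoc]

end CfsgLib.Sporadic.J4Inv
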