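import Cfsg.Agent.Lib.Sporadic.J4Inv.Count

/-!
# Symbolic forms of elements of 2^11:M24 (owner: helper21)

A translation, a packed permutation, and the matrix of the conjugation on translations.
-/

set_option autoImplicit false
set_option maxRecDepth 40000

namespace CfsgLib.Sporadic.J4Inv

open Cfsg CfsgLib.Sporadic.J4Order
open CfsgLib.Sporadic.J4Rep (V app app_cons app_nil app_zero app_xor app_lt)
open CfsgLib.Sporadic (Rep pmul pone pget)

/-- A symbolic form. -/
abbrev Tri : Type := ℕ × ℕ × List ℕ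

/-- The symbolic form describes the element. -/
def IsTri (T : Tri) (x : Equiv.Perm V) : Prop :=
  T.1 < 2048 ∧ ∃ g : J4Pres.K0, x = eA T.1 * rK g ∧ Rep ((J4Pres.toM24 g : ↥M24) : Equiv.Perm GolayPt) T.2.1 ∧
    ∀ u < 2048, app T.2.2 u < 2048 ∧ rK g * eA u = eA (app T.2.2 u) * rK g

/-- The basis. -/
def idCols : List ℕ := [1, 2, 4, 8, 16, 32, 64, 128, 256, 512, 1024]

/-- The form of the identity. -/
noncomputable def tone : Tri := (0, pone, idCols)

theorem app_idCols {u : ℕ} (hu : u < 2048) : app idCols u = u := by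
  refine linear_ext (app_xor _) (g := fun v => v) (fun _ _ => rfl) 11 (fun i hi => ?_) u hu
  rw [app_two_pow]
  interval_cases i <;> rfl

theorem isTri_one : IsTri tone 1 :=
  ⟨by norm_num [tone], 1, by simp [tone, eA_zero], by simpa [tone] using Rep.one,
    fun u hu => by
      rw [show tone.2.2 = idCols from rfl, app_idCols hu]
      exact ⟨hu, by simp⟩⟩

/-- The form of a product. -/
noncomputable def tmul (A B : Tri) : Tri :=
  (Nat.xor A.1 (app A.2.2 B.1), pmul A.2.1 B.2.1, B.2.2.map (app A.2.2))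

theorem app_map (A : List ℕ) : ∀ (N : List ℕ) (u : ℕ), app (N.map (app A)) u = app A (app N u)
  | [], u => by rw [List.map_nil, app_nil, app_zero]
  | c :: N, u => by
    rw [List.map_cons, app_cons, app_cons, app_map A N, app_xor]
    split <;> simp [app_zero]

theorem IsTri.mul {A B : Tri} {x y : Equiv.Perm V} (hA : IsTri A x) (hB : IsTri B y) :
    IsTri (tmul A B) (x * y) := by
  obtain ⟨ha, g, hx, hr, hM⟩ := hA
  obtain ⟨hb, h, hy, hs, hN⟩ := hB
  refine ⟨Nat.xor_lt_two_pow (n := 11) ha (hM _ hb).1, g * h, ?_, ?_, fun u hu => ?_⟩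
  · show x * y = eA (A.1 ^^^ app A.2.2 B.1) * rK (g * h)
    rw [hx, hy, eA_xor, map_mul, mul_assoc (eA A.1), ← mul_assoc (rK g), (hM _ hb).2]
    simp only [mul_assoc]
  · rw [map_mul, Subgroup.coe_mul]
    exact hr.mul hs
  · show app (B.2.2.map (app A.2.2)) u < 2048 ∧ rK (g * h) * eA u = eA (app (B.2.2.map (app A.2.2)) u) * rK (g * h)
    rw [app_map]
    obtain ⟨h1, h2⟩ := hN u hu
    obtain ⟨h3, h4⟩ := hM _ h1
    refine ⟨h3, ?_⟩
    rw [map_mul, mul_assoc, h2, ← mul_assoc, h4, mul_assoc]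

/-- The form of a letter. -/
noncomputable def letTri (k : ℕ) : Tri :=
  cond (Nat.blt k 4) (0, J4Pres.pk k, idCols.map (cjL k)) (1 <<< (k - 6), pone, idCols)

theorem cjL_xor (k a b : ℕ) : cjL k (a ^^^ b) = cjL k a ^^^ cjL k b := by
  unfold cjL
  cases Nat.blt k 2 <;> cases Nat.beq k 2 <;> simp [app_xor]

theorem app_map_linear {f : ℕ → ℕ} (hf : ∀ a b, f (a ^^^ b) = f a ^^^ f b) {u : ℕ} (hu : u < 2048) :
    app (idCols.map f) u = f u := by
  refine linear_ext (app_xor _) hf 11 (fun i hi => ?_) u hu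
  rw [app_two_pow]
  interval_cases i <;> rfl

theorem isTri_letter {k : ℕ} (hk : k < 4 ∨ (6 ≤ k ∧ k < 17)) : IsTri (letTri k) (let2 k) := by
  unfold letTri
  by_cases h4 : k < 4
  · rw [show Nat.blt k 4 = true by simpa using h4, cond_true]
    refine ⟨Nat.two_pow_pos 11, J4Pres.L k, ?_, ?_, fun u hu => ?_⟩
    · rw [eA_zero, one_mul, rK_L h4]
    · rw [J4Pres.toM24_L]
      exact (J4Pres.exists_letter k).choose_spec.1
    · show app (idCols.map (cjL k)) u < 2048 ∧ rK (J4Pres.L k) * eA u = eA (app (idCols.map (cjL k)) u) * rK (J4Pres.L k)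
      rw [app_map_linear (cjL_xor k) hu, rK_L h4]
      exact eA_cjL h4 hu
  · rw [show Nat.blt k 4 = false from Bool.eq_false_iff.2 (by simpa using h4), cond_false]
    obtain ⟨h6, h17⟩ := hk.resolve_left h4
    obtain ⟨i, rfl⟩ := Nat.exists_eq_add_of_le h6
    have hi : i < 11 := by omega
    rw [Nat.add_sub_cancel_left, Nat.one_shiftLeft]
    refine ⟨Nat.pow_lt_pow_right (m := i) (n := 11) (by norm_num) hi, 1, ?_, ?_, fun u hu => ?_⟩
    · rw [map_one, mul_one, eA_unit hi]
    · simpa using Rep.one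
    · show app idCols u < 2048 ∧ rK 1 * eA u = eA (app idCols u) * rK 1
      rw [app_idCols hu]
      exact ⟨hu, by simp⟩

/-- The form of a product of forms. -/
noncomputable def tprod (Ts : List Tri) : Tri := List.rec tone (fun T _ ih => tmul T ih) Ts

theorem isTri_prod {F : ℕ → Equiv.Perm V} {T : ℕ → Tri} : ∀ (l : List ℕ), (∀ j ∈ l, IsTri (T j) (F j)) →
    IsTri (tprod (l.map T)) (l.map F).prod
  | [], _ => isTri_one
  | j :: l, h => by
    rw [List.map_cons, List.map_cons, List.prod_cons]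
    exact (h j List.mem_cons_self).mul (isTri_prod l fun i hi => h i (List.mem_cons_of_mem _ hi))

/-- Forms of equal elements, exactly. -/
noncomputable def sameTri (A B : Tri) : Bool :=
  Nat.beq A.1 B.1 && (List.range 24).all fun i => Nat.beq (pget A.2.1 i) (pget B.2.1 i)

theorem sameTri_iff {A B : Tri} {x y : Equiv.Perm V} (hA : IsTri A x) (hB : IsTri B y) :
    sameTri A B = true ↔ x = y := by
  obtain ⟨ha, g, hx, hr, -⟩ := hA
  obtain ⟨hb, h, hy, hs, -⟩ := hB
  rw [sameTri, Bool.and_eq_true, List.all_eq_true]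
  constructor
  · rintro ⟨h1, h2⟩
    have : g = h := J4Pres.toM24_injective (Subtype.ext (Equiv.ext fun p => CfsgLib.Sporadic.ix_injective (by
      rw [← hr p, ← hs p]
      exact Nat.eq_of_beq_eq_true (h2 _ (List.mem_range.2 (CfsgLib.Sporadic.ix_lt p))))))
    rw [hx, hy, Nat.eq_of_beq_eq_true h1, this]
  · intro e
    rw [hx, hy] at e
    obtain ⟨h1, rfl⟩ := split_unique (eA_mem ha) (eA_mem hb) e
    refine ⟨by rw [eA_inj ha hb h1]; exact Nat.beq_refl _, fun i hi => ?_⟩
    have h2 := hr (CfsgLib.Sporadic.pt i)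
    have h3 := hs (CfsgLib.Sporadic.pt i)
    rw [CfsgLib.Sporadic.ix_pt (List.mem_range.1 hi)] at h2 h3
    rw [h2, h3]
    exact Nat.beq_refl _

/-- Equal forms. -/
noncomputable def tbeq (A B : Tri) : Bool := Nat.beq A.1 B.1 && Nat.beq A.2.1 B.2.1 && A.2.2 == B.2.2

theorem tbeq_eq {A B : Tri} (h : tbeq A B = true) : A = B := by
  simp only [tbeq, Bool.and_eq_true] at h
  exact Prod.ext (Nat.eq_of_beq_eq_true h.1.1) (Prod.ext (Nat.eq_of_beq_eq_true h.1.2) (eq_of_beq h.2))

end CfsgLib.Sporadic.J4Inv
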