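import Cfsg.Agent.Lib.Sporadic.J4Inv.Action
import Cfsg.Agent.Lib.Sporadic.J4Inv.Symplectic
import Cfsg.Agent.Lib.Sporadic.J4Inv.Tri
import Cfsg.Agent.Lib.Sporadic.J4Inv.DataTri

/-!
# The kernel of the action is an extension of an extraspecial group by a group of order three (owner: helper21)
-/

set_option autoImplicit false
set_option maxRecDepth 100000

namespace CfsgLib.Sporadic.J4Inv

open Cfsg CfsgLib.Sporadic.J4Order
open CfsgLib.Sporadic.J4Rep (V app)
open CfsgLib.Sporadic (Rep pone)

/-- The form of a generator fixing the first point. -/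
noncomputable def gT (i : ℕ) : Tri := genTris.getD i tone

/-- The form of a generator of the extraspecial subgroup; 12 stands for the involution. -/
noncomputable def qT (i : ℕ) : Tri := qTris.getD i tone

theorem gT_ok : ((List.range 13).all fun i =>
    nW (cgWords.getD i []) && tbeq (tprod ((cgWords.getD i []).map letTri)) (gT i)) = true := by decide +kernel

theorem qT_ok : ((List.range 12).all fun i => (qIdx.getD i []).all (fun j => Nat.blt j 13) &&
    tbeq (tprod ((qIdx.getD i []).map gT)) (qT i) &&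
    Nat.beq (wordPack cgPacks (qIdx.getD i [])) pone7) = true := by decide +kernel

theorem xT_ok : (xIdx.all (fun j => Nat.blt j 13) && tbeq (tprod (xIdx.map gT)) xTri &&
    Nat.beq (wordPack cgPacks xIdx) pone7 && tbeq (qT 12) (1295, pone, idCols)) = true := by decide +kernel

theorem isTri_cgen {i : ℕ} (hi : i < 13) : IsTri (gT i) (cgen i : Equiv.Perm V) := by
  have h := List.all_eq_true.1 gT_ok i (List.mem_range.2 hi)
  rw [Bool.and_eq_true] at h
  have e : (cgen i : Equiv.Perm V) = ((cgWords.getD i []).map let2).prod := by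
    unfold cgen
    rw [dif_pos (by omega)]
    rfl
  rw [← tbeq_eq h.2, e]
  exact isTri_prod _ fun k hk => isTri_letter (nW_iff.1 h.1 k hk)

theorem isTri_gw {w : List ℕ} (hw : ∀ j ∈ w, j < 13) : IsTri (tprod (w.map gT)) (gw w : Equiv.Perm V) := by
  rw [gw, SubmonoidClass.coe_list_prod, List.map_map]
  exact isTri_prod w fun j hj => isTri_cgen (hw j hj)

/-- A generator of the extraspecial subgroup. -/
noncomputable def qEl (i : Fin 12) : cG := gw (qIdx.getD i.val [])

/-- The element of order three. -/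
noncomputable def xEl : cG := gw xIdx

theorem zP_mem_cG : zP ∈ cG :=
  Subgroup.mem_inf.2 ⟨nG_le_hG (eG_le_nG (zO_sub zP_mem)), Subgroup.mem_centralizer_singleton_iff.2 rfl⟩

/-- The involution in its centraliser. -/
noncomputable def zEl : cG := ⟨zP, zP_mem_cG⟩

theorem isTri_q (i : Fin 12) : IsTri (qT i.val) (qEl i : Equiv.Perm V) := by
  have h := List.all_eq_true.1 qT_ok i.val (List.mem_range.2 i.isLt)
  simp only [Bool.and_eq_true, List.all_eq_true, Nat.blt_eq] at h
  rw [← tbeq_eq h.1.2]
  exact isTri_gw h.1.1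

theorem isTri_x : IsTri xTri (xEl : Equiv.Perm V) := by
  have h := xT_ok
  simp only [Bool.and_eq_true, List.all_eq_true, Nat.blt_eq] at h
  rw [← tbeq_eq h.1.1.2]
  exact isTri_gw h.1.1.1

theorem isTri_z : IsTri (qT 12) (zEl : Equiv.Perm V) := by
  have h := xT_ok
  simp only [Bool.and_eq_true] at h
  rw [tbeq_eq h.2]
  refine ⟨by norm_num, 1, ?_, ?_, fun u hu => ?_⟩
  · show zP = eA 1295 * rK 1
    rw [map_one, mul_one]
    rfl
  · simpa using Rep.one
  · show app idCols u < 2048 ∧ rK 1 * eA u = eA (app idCols u) * rK 1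
    rw [app_idCols hu]
    exact ⟨hu, by simp⟩

theorem eq_of_sameTri {g h : cG} {A B : Tri} (hA : IsTri A (g : Equiv.Perm V)) (hB : IsTri B (h : Equiv.Perm V))
    (e : sameTri A B = true) : g = h :=
  Subtype.ext ((sameTri_iff hA hB).1 e)

theorem isTri_mul {g h : cG} {A B : Tri} (hA : IsTri A (g : Equiv.Perm V)) (hB : IsTri B (h : Equiv.Perm V)) :
    IsTri (tmul A B) ((g * h : cG) : Equiv.Perm V) := hA.mul hB

/-- The extraspecial subgroup. -/
noncomputable def qG : Subgroup cG := Subgroup.closure (Set.range qEl)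

theorem psi_of_pack {w : List ℕ} (h : Nat.beq (wordPack cgPacks w) pone7 = true) : psi (gw w) = 1 := by
  have h' := rep_gw w
  rw [Nat.eq_of_beq_eq_true h] at h'
  exact h'.unique Rep7.one

theorem qG_le_ker : qG ≤ psi.ker := by
  rw [qG, Subgroup.closure_le]
  rintro _ ⟨i, rfl⟩
  have h := List.all_eq_true.1 qT_ok i.val (List.mem_range.2 i.isLt)
  rw [Bool.and_eq_true] at h
  exact MonoidHom.mem_ker.2 (psi_of_pack h.2)

theorem xEl_ker : xEl ∈ psi.ker := by
  have h := xT_ok
  rw [Bool.and_eq_true, Bool.and_eq_true] at h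
  exact MonoidHom.mem_ker.2 (psi_of_pack h.1.2)

theorem zEl_ne : zEl ≠ 1 := by
  intro h
  have h1 : eA 1295 = 1 := congrArg Subtype.val h
  exact absurd (eA_injOn (by norm_num) h1) (by norm_num)

theorem zEl_sq : zEl * zEl = 1 := Subtype.ext (eA_sq 1295)

theorem zEl_comm (g : cG) : Commute zEl g :=
  Subtype.ext (Subgroup.mem_centralizer_singleton_iff.1 g.2.2).symm

theorem q_comm : ((List.range 12).all fun i => (List.range 12).all fun j =>
    sameTri (tmul (qT i) (qT j)) (cond (Nat.beq j (i ^^^ 1)) (tmul (tmul (qT j) (qT i)) (qT 12))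
      (tmul (qT j) (qT i)))) = true := by decide +kernel

theorem partner_val : ∀ i j : Fin 12, j = partner i ↔ Nat.beq j.val (i.val ^^^ 1) = true := by decide +kernel

theorem qEl_comm (i j : Fin 12) :
    qEl i * qEl j = qEl j * qEl i * (if j = partner i then zEl else 1) := by
  have h := List.all_eq_true.1 (List.all_eq_true.1 q_comm i.val (List.mem_range.2 i.isLt)) j.val
    (List.mem_range.2 j.isLt)
  by_cases hp : j = partner i
  · rw [(partner_val i j).1 hp, cond_true] at h
    rw [if_pos hp]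
    exact eq_of_sameTri (isTri_mul (isTri_q i) (isTri_q j))
      (isTri_mul (isTri_mul (isTri_q j) (isTri_q i)) isTri_z) h
  · rw [show Nat.beq j.val (i.val ^^^ 1) = false from Bool.eq_false_iff.2 fun h => hp ((partner_val i j).2 h),
      cond_false] at h
    rw [if_neg hp, mul_one]
    exact eq_of_sameTri (isTri_mul (isTri_q i) (isTri_q j)) (isTri_mul (isTri_q j) (isTri_q i)) h

theorem qG_facts : zEl ∈ qG ∧ (∃ k, Nat.card qG = 4096 * (2 * k)) ∧
    (Nat.card qG = 8192 → Cfsg.IsExtraspecial 2 qG) ∧ ∀ x ∈ qG, ∀ i, x * x * qEl i = qEl i * (x * x) :=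
  pairs_facts zEl_sq zEl_ne (fun i => zEl_comm _) qEl_comm

theorem x_checks : (sameTri (tmul (tmul xTri xTri) xTri) tone &&
    (List.range 12).any fun i => !sameTri (tmul xTri (qT i)) (tmul (qT i) xTri)) = true := by decide +kernel

theorem xEl_cube : xEl * xEl * xEl = 1 := by
  have h := x_checks
  rw [Bool.and_eq_true] at h
  exact eq_of_sameTri (g := xEl * xEl * xEl) (h := 1) (isTri_mul (isTri_mul isTri_x isTri_x) isTri_x) isTri_one h.1

theorem xEl_not_mem : xEl ∉ qG := by
  intro hx
  have hcen := qG_facts.2.2.2 (xEl * xEl) (mul_mem hx hx)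
  have hc := x_checks
  rw [Bool.and_eq_true] at hc
  obtain ⟨i, hi, h⟩ := List.any_eq_true.1 hc.2
  rw [List.mem_range] at hi
  rw [Bool.not_eq_true'] at h
  have h4 : xEl * xEl * (xEl * xEl) = xEl := by rw [← mul_assoc, xEl_cube, one_mul]
  have hc := hcen ⟨i, hi⟩
  rw [h4] at hc
  have := (sameTri_iff (isTri_mul isTri_x (isTri_q ⟨i, hi⟩)) (isTri_mul (isTri_q ⟨i, hi⟩) isTri_x)).2
    (congrArg Subtype.val hc)
  rw [h] at this
  exact absurd this (by decide)

theorem exists_qProd : ∀ l : List ℕ, l.all (fun j => Nat.blt j 13) = true →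
    ∃ g ∈ qG, IsTri (tprod (l.map qT)) (g : Equiv.Perm V)
  | [], _ => ⟨1, one_mem _, isTri_one⟩
  | a :: l, h => by
    rw [List.all_cons, Bool.and_eq_true, Nat.blt_eq] at h
    obtain ⟨g, hg, hT⟩ := exists_qProd l h.2
    rcases Nat.lt_or_eq_of_le (Nat.le_of_lt_succ h.1) with ha | rfl
    · exact ⟨qEl ⟨a, ha⟩ * g, mul_mem (Subgroup.subset_closure ⟨_, rfl⟩) hg, isTri_mul (isTri_q ⟨a, ha⟩) hT⟩
    · exact ⟨zEl * g, mul_mem qG_facts.1 hg, isTri_mul isTri_z hT⟩

theorem x_action : ((List.range 12).all fun i => (xConj.getD i []).all (fun j => Nat.blt j 13) &&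
    sameTri (tmul xTri (qT i)) (tmul (tprod ((xConj.getD i []).map qT)) xTri)) = true := by decide +kernel

/-- Words in generators of the whole image: conjugates of one translation and one more generator. -/
def fullSel : List (List ℕ) := selWords.map (fun g => g ++ tWord ++ g.reverse.map fun i => (i + 14) % 28) ++ [[11]]

theorem full_chain : (chain7 (fullSel.map (wordPack cgPacks)) fullChain [] &&
    Nat.beq (fullChain.map fun l => popc7 l.2.2.2).prod 887040) = true := by decide +kernel

theorem psi_range_ge : 887040 ≤ Nat.card psi.range := by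
  have h := full_chain
  rw [Bool.and_eq_true] at h
  rw [← Nat.eq_of_beq_eq_true h.2]
  refine card_ge_of_chain (fun w => ⟨_, ?_, rep_wordPack (F := fun j => psi (gw (fullSel.getD j []))) (fun j => ?_) w⟩) h.1
  · exact list_prod_mem fun σ hσ => by
      obtain ⟨j, -, rfl⟩ := List.mem_map.1 hσ
      exact ⟨_, rfl⟩
  · have e : (fullSel.map (wordPack cgPacks)).getD j pone7 = wordPack cgPacks (fullSel.getD j []) := by
      rw [show pone7 = wordPack cgPacks [] from rfl, List.getD_map]
    rw [e]
    exact rep_gw _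

theorem ker_facts : Nat.card psi.ker = 24576 ∧ Nat.card qG = 8192 ∧ psi.ker = qG ⊔ Subgroup.zpowers xEl := by
  have hK : Nat.card psi.ker ≤ 24576 := by
    have h := Subgroup.card_eq_card_quotient_mul_card_subgroup psi.ker
    rw [Nat.card_congr (QuotientGroup.quotientKerEquivRange psi).toEquiv, card_cG] at h
    by_contra hlt
    have := Nat.mul_le_mul psi_range_ge (Nat.succ_le_of_lt (Nat.lt_of_not_le hlt))
    rw [← h] at this
    norm_num at this
  set J := qG ⊔ Subgroup.zpowers xEl with hJ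
  have hJK : J ≤ psi.ker := sup_le qG_le_ker (by simpa [Subgroup.zpowers_le] using xEl_ker)
  have h3 : 3 ∣ Nat.card J := by
    have ho : orderOf xEl = 3 := by
      haveI : Fact (Nat.Prime 3) := ⟨by norm_num⟩
      refine orderOf_eq_prime (by rw [pow_succ, pow_two, xEl_cube]) fun h => xEl_not_mem ?_
      rw [h]
      exact one_mem _
    rw [← ho, ← Subgroup.orderOf_mk xEl ((le_sup_right : Subgroup.zpowers xEl ≤ J) (Subgroup.mem_zpowers xEl))]
    exact orderOf_dvd_natCard _
  have hQ := Subgroup.card_dvd_of_le (le_sup_left : qG ≤ J)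
  obtain ⟨k, hk⟩ := qG_facts.2.1
  have hlt : Nat.card qG < Nat.card J := by
    refine lt_of_le_of_ne (Subgroup.card_le_of_le le_sup_left) fun e => ?_
    exact xEl_not_mem ((Subgroup.eq_of_le_of_card_ge le_sup_left e.ge).symm ▸
      (le_sup_right : Subgroup.zpowers xEl ≤ J) (Subgroup.mem_zpowers xEl))
  have hJle := (Subgroup.card_le_of_le hJK).trans hK
  obtain ⟨m, hm⟩ := hQ
  have hk0 : 0 < k := by
    have : 0 < Nat.card qG := Nat.card_pos
    omega
  have hres : Nat.card J = 24576 ∧ Nat.card qG = 8192 := by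
    rw [hk] at hlt hm ⊢
    have hm' : Nat.card J = 8192 * (k * m) := by
      refine Eq.trans ?_ (show 4096 * (2 * k) * m = 8192 * (k * m) by ring)
      exact hm
    generalize Nat.card J = c at hm' hlt hJle h3 ⊢
    clear hm
    have hm2 : 2 ≤ m := by
      by_contra hm1
      interval_cases m <;> omega
    have hkm : k * m ≤ 3 := by omega
    have hk1 : k = 1 := by
      have := Nat.mul_le_mul_left k hm2
      omega
    subst hk1
    rw [one_mul] at hm' hkm
    refine ⟨?_, rfl⟩
    omega
  refine ⟨le_antisymm hK (hres.1 ▸ Subgroup.card_le_of_le hJK), hres.2, ?_⟩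
  exact (Subgroup.eq_of_le_of_card_ge hJK (hK.trans hres.1.ge)).symm

theorem qG_extraspecial : Cfsg.IsExtraspecial 2 qG := qG_facts.2.2.1 ker_facts.2.1

theorem mem_normalizer_closure {G : Type*} [Group G] [Finite G] {S : Set G} {g : G}
    (h : ∀ s ∈ S, g * s * g⁻¹ ∈ Subgroup.closure S) :
    g ∈ Subgroup.normalizer (Subgroup.closure S : Set G) := by
  rw [Subgroup.mem_normalizer_iff_map_conj_eq]
  refine Subgroup.eq_of_le_of_card_ge ?_ (le_of_eq (Subgroup.card_map_of_injective (MulAut.conj g).injective).symm)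
  rw [MonoidHom.map_closure, Subgroup.closure_le]
  rintro _ ⟨s, hs, rfl⟩
  exact h s hs

theorem xEl_conj (i : Fin 12) : xEl * qEl i * xEl⁻¹ ∈ qG := by
  have h := List.all_eq_true.1 x_action i.val (List.mem_range.2 i.isLt)
  rw [Bool.and_eq_true] at h
  obtain ⟨g, hg, hT⟩ := exists_qProd _ h.1
  have e : xEl * qEl i = g * xEl := eq_of_sameTri (isTri_mul isTri_x (isTri_q i)) (isTri_mul hT isTri_x) h.2
  rw [e, mul_inv_cancel_right]
  exact hg

theorem xEl_normalizes : xEl ∈ Subgroup.normalizer (qG : Set cG) :=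
  mem_normalizer_closure (S := Set.range qEl) (by
    rintro _ ⟨i, rfl⟩
    exact xEl_conj i)

theorem ker_le_normalizer : psi.ker ≤ Subgroup.normalizer (qG : Set cG) := by
  rw [ker_facts.2.2]
  exact sup_le Subgroup.le_normalizer (by simpa [Subgroup.zpowers_le] using xEl_normalizes)

theorem mem_qG_of_pow {k : cG} (hk : k ∈ psi.ker) (h : k ^ 8192 = 1) : k ∈ qG := by
  set Q' := qG.subgroupOf psi.ker
  haveI : Q'.Normal := Subgroup.normal_subgroupOf_of_le_normalizer ker_le_normalizer
  have hidx : Q'.index = 3 := by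
    have h1 := Subgroup.card_mul_index Q'
    rw [Nat.card_congr (Subgroup.subgroupOfEquivOfLe qG_le_ker).toEquiv, ker_facts.1, ker_facts.2.1] at h1
    omega
  have h3 : (⟨k, hk⟩ : psi.ker) ^ 3 ∈ Q' := hidx ▸ Q'.pow_index_mem _
  have h3' : k ^ 3 ∈ qG := h3
  have e : k = (k ^ 3) ^ 2731 * (k ^ 8192)⁻¹ := by
    rw [← pow_mul, show 3 * 2731 = 8192 + 1 from rfl, pow_succ, h, one_mul, inv_one, mul_one]
  rw [e, h, inv_one, mul_one]
  exact pow_mem h3' _

theorem qG_normal : qG.Normal := by
  refine ⟨fun q hq g => mem_qG_of_pow ((MonoidHom.normal_ker psi).conj_mem q (qG_le_ker hq) g) ?_⟩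
  rw [conj_pow]
  have h : (⟨q, hq⟩ : qG) ^ 8192 = 1 := ker_facts.2.1 ▸ pow_card_eq_one'
  rw [show q ^ 8192 = 1 from congrArg Subtype.val h, mul_one, mul_inv_cancel]

end CfsgLib.Sporadic.J4Inv
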