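import Cfsg.Agent.Lib.Sporadic.J4Order.Count

/-!
# The orbit of 1771 translations of 2^11:M24 (owner: helper21)
-/

set_option autoImplicit false
set_option maxRecDepth 40000

namespace CfsgLib.Sporadic.J4Inv

open Cfsg CfsgLib.Sporadic.J4Order
open CfsgLib.Sporadic.J4Rep (V app)
open CfsgLib.Sporadic (Rep pmul pone)
open scoped Pointwise

/-- The bits of the orbit of 1771 translations. -/
noncomputable def oMask : ℕ := eOrbit eEdges0 eRoot0

/-- The involution whose centraliser is studied. -/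
noncomputable def zP : Equiv.Perm V := eA 1295

/-- The orbit of 1771 translations. -/
def zO : Set (Equiv.Perm V) := {x | ∃ a, oMask.testBit a = true ∧ x = eA a}

theorem runE_reach (r : ℕ) : ∀ (es : List ℕ) {M : ℕ},
    (∀ p, M.testBit p = true → p < 2048 ∧ ∃ n ∈ nG, n * eA r * n⁻¹ = eA p) →
      ∀ p, (runE es M).testBit p = true → p < 2048 ∧ ∃ n ∈ nG, n * eA r * n⁻¹ = eA p
  | [], _, hM => hM
  | e :: es, M, hM => by
    intro q hq
    change (cond (M.testBit ((e >>> 12) &&& 4095) && Nat.blt (e >>> 24) 2 &&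
        Nat.beq (app (cjs.getD (e >>> 24) []) ((e >>> 12) &&& 4095)) (e &&& 4095))
      (strict (M ||| 1 <<< (e &&& 4095)) (runE es)) 0).testBit q = true at hq
    cases hc : (M.testBit ((e >>> 12) &&& 4095) && Nat.blt (e >>> 24) 2 &&
        Nat.beq (app (cjs.getD (e >>> 24) []) ((e >>> 12) &&& 4095)) (e &&& 4095)) with
    | false => rw [hc, cond_false] at hq; simp at hq
    | true =>
      rw [hc, cond_true, strict_eq] at hq
      simp only [Bool.and_eq_true, Nat.blt_eq] at hc
      obtain ⟨⟨h1, h2⟩, h3⟩ := hc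
      obtain ⟨hp, n, hn, he⟩ := hM _ h1
      have e3 := Nat.eq_of_beq_eq_true h3
      refine runE_reach r es (fun p hp' => ?_) q hq
      rw [Nat.testBit_or, Bool.or_eq_true, Nat.one_shiftLeft, Nat.testBit_two_pow, decide_eq_true_eq] at hp'
      rcases hp' with hp' | rfl
      · exact hM p hp'
      · rw [← e3]
        have hg : xyGen (e >>> 24) ∈ nG := by
          unfold xyGen
          split <;> exact let2_mem_nG (by norm_num)
        refine ⟨cj_lt _ _ h2, xyGen (e >>> 24) * n, mul_mem hg hn, ?_⟩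
        rw [← eA_conj h2 hp, ← he]
        group

theorem orbit_check : (oMask.testBit 1295 && (List.range 2048).all (fun a =>
    !oMask.testBit a || (oMask.testBit (app (cjs.getD 0 []) a) && oMask.testBit (app (cjs.getD 1 []) a))) &&
    Nat.beq (((List.range 2048).filter fun a => oMask.testBit a).length) 1771) = true := by decide +kernel

theorem oMask_reach {a : ℕ} (h : oMask.testBit a = true) :
    a < 2048 ∧ ∃ n ∈ nG, n * eA eRoot0 * n⁻¹ = eA a := by
  refine runE_reach eRoot0 (eEdges0.flatMap fun b => edgeList b.1 b.2) (M := 1 <<< eRoot0) (fun q hq => ?_) a h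
  rw [Nat.one_shiftLeft, Nat.testBit_two_pow, decide_eq_true_eq] at hq
  subst hq
  exact ⟨by decide +kernel, 1, one_mem _, by group⟩

theorem zP_mem : zP ∈ zO := by
  have h := orbit_check
  rw [Bool.and_eq_true, Bool.and_eq_true] at h
  exact ⟨1295, h.1.1, rfl⟩

theorem zO_sub {x : Equiv.Perm V} (h : x ∈ zO) : x ∈ eG := by
  obtain ⟨a, ha, rfl⟩ := h
  exact eA_mem (oMask_reach ha).1

theorem zO_reach {x : Equiv.Perm V} (h : x ∈ zO) : ∃ n ∈ nG, n * zP * n⁻¹ = x := by
  obtain ⟨a, ha, rfl⟩ := h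
  obtain ⟨-, n, hn, e⟩ := oMask_reach ha
  have h1 := orbit_check
  rw [Bool.and_eq_true, Bool.and_eq_true] at h1
  obtain ⟨-, m, hm, e'⟩ := oMask_reach h1.1.1
  refine ⟨n * m⁻¹, mul_mem hn (inv_mem hm), ?_⟩
  rw [← e, zP, ← e']
  group

theorem eA_inj {a b : ℕ} (ha : a < 2048) (hb : b < 2048) (h : eA a = eA b) : a = b :=
  Nat.xor_eq_zero_iff.1 (eA_injOn (Nat.xor_lt_two_pow (n := 11) ha hb) (by rw [eA_xor, h, eA_sq]))

theorem mem_zO {a : ℕ} (ha : a < 2048) : eA a ∈ zO ↔ oMask.testBit a = true := by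
  refine ⟨fun h => ?_, fun h => ⟨a, h, rfl⟩⟩
  obtain ⟨b, hb, e⟩ := h
  rwa [eA_inj ha (oMask_reach hb).1 e]

theorem zO_card : zO.ncard = 1771 := by
  classical
  have h := orbit_check
  rw [Bool.and_eq_true, Bool.and_eq_true] at h
  have h3 := Nat.eq_of_beq_eq_true h.2
  set L := (List.range 2048).filter fun a => oMask.testBit a with hL
  have e : zO = ((L.map eA).toFinset : Set (Equiv.Perm V)) := by
    ext x
    simp only [zO, Set.mem_ofPred_eq, List.coe_toFinset, List.mem_map]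
    constructor
    · rintro ⟨a, ha, rfl⟩
      exact ⟨a, List.mem_filter.2 ⟨List.mem_range.2 (oMask_reach ha).1, ha⟩, rfl⟩
    · rintro ⟨a, ha, rfl⟩
      exact ⟨a, (List.mem_filter.1 ha).2, rfl⟩
  rw [e, Set.ncard_coe_finset, List.toFinset_card_of_nodup, List.length_map, h3]
  exact (List.nodup_range.filter _).map_on fun a ha b hb e =>
    eA_inj (List.mem_range.1 (List.mem_filter.1 ha).1) (List.mem_range.1 (List.mem_filter.1 hb).1) e

theorem zO_closed {n : Equiv.Perm V} (hn : n ∈ nG) {x : Equiv.Perm V} (hx : x ∈ zO) : n * x * n⁻¹ ∈ zO := by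
  have hle : nG ≤ Subgroup.normalizer zO := by
    have hgen : ∀ g < 2, xyGen g ∈ Subgroup.normalizer zO := by
      intro g hg
      rw [Subgroup.mem_normalizer_iff_conj_image_eq]
      refine Set.eq_of_subset_of_ncard_le ?_
        (le_of_eq (Set.ncard_image_of_injective _ (MulAut.conj (xyGen g)).injective).symm) (Set.toFinite _)
      rintro _ ⟨x, ⟨a, ha, rfl⟩, rfl⟩
      show xyGen g * eA a * (xyGen g)⁻¹ ∈ zO
      rw [eA_conj hg (oMask_reach ha).1]
      have h := orbit_check
      rw [Bool.and_eq_true, Bool.and_eq_true] at h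
      have h2 := List.all_eq_true.1 h.1.2 a (List.mem_range.2 (oMask_reach ha).1)
      rw [ha, Bool.not_true, Bool.false_or, Bool.and_eq_true] at h2
      refine ⟨_, ?_, rfl⟩
      interval_cases g
      · exact h2.1
      · exact h2.2
    refine sup_le ?_ ?_
    · intro e he
      rw [Subgroup.mem_normalizer_iff_conj_image_eq]
      have hfix : ∀ x ∈ zO, MulAut.conj e x = x := by
        intro x hx
        obtain ⟨a, ha, rfl⟩ := he
        obtain ⟨b, hb, rfl⟩ := hx
        show eA a * eA b * (eA a)⁻¹ = eA b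
        rw [mul_inv_eq_iff_eq_mul, ← eA_xor, ← eA_xor, Nat.xor_comm]
      ext x
      refine ⟨?_, fun hx => ⟨x, hx, hfix x hx⟩⟩
      rintro ⟨y, hy, rfl⟩
      rwa [hfix y hy]
    · rw [rK_range, Subgroup.closure_le]
      rintro _ (rfl | rfl)
      · exact hgen 0 (by norm_num)
      · exact hgen 1 (by norm_num)
  exact ((Subgroup.mem_set_normalizer_iff.1 (hle hn)) x).1 hx

/-! ### fibres -/

/-- Elements carrying `z` into a set of its conjugates. -/
def carry (A : Subgroup (Equiv.Perm V)) (S : Set (Equiv.Perm V)) : Set (Equiv.Perm V) :=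
  {n | n ∈ A ∧ n⁻¹ * zP * n ∈ S}

theorem card_carry {A : Subgroup (Equiv.Perm V)} {S : Set (Equiv.Perm V)}
    (hS : ∀ e ∈ S, ∃ n ∈ A, n * zP * n⁻¹ = e) :
    (carry A S).ncard = S.ncard * Nat.card ↥(A ⊓ Subgroup.centralizer {zP}) := by
  choose n hn he using fun e : S => hS e e.2
  let f : S × ↥(A ⊓ Subgroup.centralizer {zP}) → carry A S := fun p =>
    ⟨(p.2 : Equiv.Perm V) * (n p.1)⁻¹, mul_mem p.2.2.1 (inv_mem (hn p.1)), by
      have hc : (p.2 : Equiv.Perm V) * zP = zP * p.2 :=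
        Subgroup.mem_centralizer_singleton_iff.1 p.2.2.2
      have : ((p.2 : Equiv.Perm V) * (n p.1)⁻¹)⁻¹ * zP * ((p.2 : Equiv.Perm V) * (n p.1)⁻¹) =
          n p.1 * zP * (n p.1)⁻¹ := by
        rw [mul_inv_rev, inv_inv, show n p.1 * (p.2 : Equiv.Perm V)⁻¹ * zP * ((p.2 : Equiv.Perm V) * (n p.1)⁻¹) =
          n p.1 * ((p.2 : Equiv.Perm V)⁻¹ * (zP * (p.2 : Equiv.Perm V))) * (n p.1)⁻¹ by group, ← hc,
          inv_mul_cancel_left]
      rw [this, he]
      exact p.1.2⟩
  have hf : Function.Bijective f := by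
    refine ⟨fun p q h => ?_, fun x => ?_⟩
    · have h' : (p.2 : Equiv.Perm V) * (n p.1)⁻¹ = q.2 * (n q.1)⁻¹ := congrArg Subtype.val h
      have key : ∀ r : S × ↥(A ⊓ Subgroup.centralizer {zP}),
          ((r.2 : Equiv.Perm V) * (n r.1)⁻¹)⁻¹ * zP * ((r.2 : Equiv.Perm V) * (n r.1)⁻¹) = r.1 := by
        intro r
        have hc : (r.2 : Equiv.Perm V) * zP = zP * r.2 :=
          Subgroup.mem_centralizer_singleton_iff.1 r.2.2.2
        rw [mul_inv_rev, inv_inv, show n r.1 * (r.2 : Equiv.Perm V)⁻¹ * zP * ((r.2 : Equiv.Perm V) * (n r.1)⁻¹) =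
          n r.1 * ((r.2 : Equiv.Perm V)⁻¹ * (zP * (r.2 : Equiv.Perm V))) * (n r.1)⁻¹ by group, ← hc,
          inv_mul_cancel_left, he]
      have h1 : p.1 = q.1 := Subtype.ext (by rw [← key p, h', key q])
      rw [h1] at h'
      exact Prod.ext h1 (Subtype.ext (mul_right_cancel h'))
    · obtain ⟨hxA, hxS⟩ := x.2
      let e : S := ⟨_, hxS⟩
      have hc : (x : Equiv.Perm V) * n e ∈ A ⊓ Subgroup.centralizer {zP} := by
        refine Subgroup.mem_inf.2 ⟨mul_mem hxA (hn e), Subgroup.mem_centralizer_singleton_iff.2 ?_⟩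
        have h := he e
        rw [mul_inv_eq_iff_eq_mul] at h
        rw [mul_assoc, h]
        show (x : Equiv.Perm V) * (((x : Equiv.Perm V)⁻¹ * zP * x) * n e) = zP * (x * n e)
        group
      exact ⟨(e, ⟨_, hc⟩), Subtype.ext (mul_inv_cancel_right _ _)⟩
  rw [← Nat.card_coe_set_eq, ← Nat.card_eq_of_bijective f hf, Nat.card_prod, Nat.card_coe_set_eq]

theorem card_CN : Nat.card ↥(nG ⊓ Subgroup.centralizer {zP}) = 283115520 := by
  have h := card_carry (A := nG) (S := zO) fun e he => zO_reach he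
  have e : carry nG zO = (nG : Set (Equiv.Perm V)) := by
    ext n
    refine ⟨fun h => h.1, fun h => ⟨h, ?_⟩⟩
    have := zO_closed (inv_mem h) zP_mem
    rwa [inv_inv] at this
  rw [e, zO_card, show ((nG : Set (Equiv.Perm V))).ncard = Nat.card nG from (Nat.card_coe_set_eq _).symm,
    card_nG, show 2048 * 244823040 = 1771 * 283115520 by norm_num] at h
  exact (Nat.eq_of_mul_eq_mul_left (by norm_num) h).symm

end CfsgLib.Sporadic.J4Inv
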