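import Cfsg.Agent.Lib.Sporadic.J4Inv.Kernel

/-!
# The subgroup of index two of the centraliser (owner: helper21)
-/

set_option autoImplicit false
set_option maxRecDepth 100000

namespace CfsgLib.Sporadic.J4Inv

open Cfsg CfsgLib.Sporadic.J4Order
open CfsgLib.Sporadic.J4Rep (V)

section General

variable {G : Type*} [Group G] {Q : Subgroup G} {x : G}

/-- Fixing the coset of `x`. -/
def Fixes (Q : Subgroup G) (x g : G) : Prop := g * x * g⁻¹ * x⁻¹ ∈ Q

/-- Inverting the coset of `x`. -/
def Inverts (Q : Subgroup G) (x g : G) : Prop := g * x * g⁻¹ * x ∈ Q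

variable (hQ : Q.Normal)
include hQ

theorem fixes_fixes {g h : G} (a : Fixes Q x g) (b : Fixes Q x h) : Fixes Q x (g * h) := by
  have := mul_mem (hQ.conj_mem _ b g) a
  show g * h * x * (g * h)⁻¹ * x⁻¹ ∈ Q
  convert this using 1
  group

theorem fixes_inverts {g h : G} (a : Fixes Q x g) (b : Inverts Q x h) : Inverts Q x (g * h) := by
  have h1 := hQ.conj_mem _ (inv_mem a) x⁻¹
  have := mul_mem (hQ.conj_mem _ b g) h1
  show g * h * x * (g * h)⁻¹ * x ∈ Q
  convert this using 1
  group

theorem inverts_fixes {g h : G} (a : Inverts Q x g) (b : Fixes Q x h) : Inverts Q x (g * h) := by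
  have := mul_mem (hQ.conj_mem _ b g) a
  show g * h * x * (g * h)⁻¹ * x ∈ Q
  convert this using 1
  group

theorem inverts_inverts {g h : G} (a : Inverts Q x g) (b : Inverts Q x h) : Fixes Q x (g * h) := by
  have h1 := hQ.conj_mem _ (inv_mem a) x
  have := mul_mem (hQ.conj_mem _ b g) h1
  show g * h * x * (g * h)⁻¹ * x⁻¹ ∈ Q
  convert this using 1
  group

theorem fixes_inv {g : G} (a : Fixes Q x g) : Fixes Q x g⁻¹ := by
  have := hQ.conj_mem _ (inv_mem a) g⁻¹
  show g⁻¹ * x * g⁻¹⁻¹ * x⁻¹ ∈ Q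
  convert this using 1
  group

theorem inverts_inv {g : G} (a : Inverts Q x g) : Inverts Q x g⁻¹ := by
  have := hQ.conj_mem _ (hQ.conj_mem _ a x) g⁻¹
  show g⁻¹ * x * g⁻¹⁻¹ * x ∈ Q
  convert this using 1
  group

theorem fixes_one : Fixes Q x 1 := by
  show (1 : G) * x * 1⁻¹ * x⁻¹ ∈ Q
  simp

/-- The elements fixing the coset. -/
def fixSub : Subgroup G where
  carrier := {g | Fixes Q x g}
  one_mem' := fixes_one hQ
  mul_mem' := fun a b => fixes_fixes hQ a b
  inv_mem' := fun a => fixes_inv hQ a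

theorem mem_fixSub {g : G} : g ∈ fixSub (x := x) hQ ↔ Fixes Q x g := Iff.rfl

theorem not_both {g : G} (hx : x * x * x = 1) (hxQ : x ∉ Q) (a : Fixes Q x g) (b : Inverts Q x g) : False := by
  refine hxQ ?_
  have h := hQ.conj_mem _ (mul_mem (inv_mem a) b) 1
  have h2 : x * x ∈ Q := by
    convert h using 1
    group
  have h3 := mul_mem h2 h2
  rwa [← mul_assoc, hx, one_mul] at h3

theorem fixSub_index (hx : x * x * x = 1) (hxQ : x ∉ Q) (hall : ∀ g, Fixes Q x g ∨ Inverts Q x g) {a : G}
    (ha : Inverts Q x a) : (fixSub (x := x) hQ).index = 2 := by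
  rw [Subgroup.index_eq_two_iff]
  refine ⟨a, fun b => ?_⟩
  have hnb : ∀ g, Inverts Q x g → g ∉ fixSub (x := x) hQ := fun g hi hf =>
    not_both hQ hx hxQ ((mem_fixSub hQ).1 hf) hi
  rcases hall b with h | h
  · exact Or.inr ⟨(mem_fixSub hQ).2 h, hnb _ (fixes_inverts hQ h ha)⟩
  · exact Or.inl ⟨(mem_fixSub hQ).2 (inverts_inverts hQ h ha), hnb b h⟩

theorem le_fixSub_of_mem {q : G} (hq : q ∈ Q) : q ∈ fixSub (x := x) hQ := by
  show q * x * q⁻¹ * x⁻¹ ∈ Q
  have := mul_mem hq (hQ.conj_mem _ (inv_mem hq) x)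
  convert this using 1
  group

theorem self_mem_fixSub : x ∈ fixSub (x := x) hQ := by
  show x * x * x⁻¹ * x⁻¹ ∈ Q
  rw [mul_inv_cancel_right, mul_inv_cancel]
  exact one_mem _

end General

/-- The centraliser's subgroup of index two. -/
noncomputable def mG : Subgroup cG := fixSub (x := xEl) qG_normal

theorem mem_mG {g : cG} : g ∈ mG ↔ Fixes qG xEl g := Iff.rfl

theorem par_ok : ((List.range 13).all fun i =>
    (parRows.getD i (false, [])).2.all (fun j => Nat.blt j 13) &&
    sameTri (tmul (gT i) xTri) (tmul (tprod ((parRows.getD i (false, [])).2.map qT))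
      (tmul (cond (parRows.getD i (false, [])).1 (tmul xTri xTri) xTri) (gT i))) &&
    ((parRows.getD i (false, [])).1 == Nat.beq i 11)) = true := by decide +kernel

theorem cgen_class {i : ℕ} (hi : i < 13) :
    (i ≠ 11 → Fixes qG xEl (cgen i)) ∧ (i = 11 → Inverts qG xEl (cgen i)) := by
  have h := List.all_eq_true.1 par_ok i (List.mem_range.2 hi)
  rw [Bool.and_eq_true, Bool.and_eq_true] at h
  obtain ⟨⟨h1, h2⟩, h3⟩ := h
  obtain ⟨n, hn, hT⟩ := exists_qProd _ h1
  have hb : (parRows.getD i (false, [])).1 = Nat.beq i 11 := eq_of_beq h3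
  have hg : IsTri (gT i) (cgen i : Equiv.Perm V) := isTri_cgen hi
  constructor
  · intro hne
    rw [hb, show Nat.beq i 11 = false from Bool.eq_false_iff.2 fun h => hne (Nat.eq_of_beq_eq_true h), cond_false] at h2
    have e : cgen i * xEl = n * (xEl * cgen i) := eq_of_sameTri (isTri_mul hg isTri_x) (isTri_mul hT (isTri_mul isTri_x hg)) h2
    show cgen i * xEl * (cgen i)⁻¹ * xEl⁻¹ ∈ qG
    rw [e, ← mul_assoc, mul_inv_cancel_right, mul_inv_cancel_right]
    exact hn
  · intro heq
    subst heq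
    rw [hb, show Nat.beq 11 11 = true from rfl, cond_true] at h2
    have e : cgen 11 * xEl = n * (xEl * xEl * cgen 11) := eq_of_sameTri (isTri_mul hg isTri_x)
      (isTri_mul hT (isTri_mul (isTri_mul isTri_x isTri_x) hg)) h2
    show cgen 11 * xEl * (cgen 11)⁻¹ * xEl ∈ qG
    rw [e, ← mul_assoc, mul_inv_cancel_right, mul_assoc n, xEl_cube, mul_one]
    exact hn

/-- The word of the element of order three. -/
noncomputable def xLetters : List ℕ := xIdx.flatMap fun i => cgWords.getD i []

theorem c_commutes_check :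
    eqW (cgWords.getD 13 [] ++ xLetters) (xLetters ++ cgWords.getD 13 []) = true := by decide +kernel

theorem gw_eq_el : ∀ w : List ℕ, (∀ i ∈ w, i < 14) →
    (gw w : Equiv.Perm V) = el (w.flatMap fun i => cgWords.getD i [])
  | [], _ => rfl
  | i :: w, h => by
    rw [List.flatMap_cons, el_append, ← gw_eq_el w fun j hj => h j (List.mem_cons_of_mem _ hj)]
    show ((cgen i * gw w : cG) : Equiv.Perm V) = _
    rw [Subgroup.coe_mul]
    congr 1
    unfold cgen
    rw [dif_pos (h i List.mem_cons_self)]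

theorem cgen13_fixes : Fixes qG xEl (cgen 13) := by
  have e : cgen 13 * xEl = xEl * cgen 13 := by
    apply Subtype.ext
    have hx : (xEl : Equiv.Perm V) = el xLetters := gw_eq_el xIdx fun i hi => by
      have h := xT_ok
      simp only [Bool.and_eq_true, List.all_eq_true, Nat.blt_eq] at h
      exact Nat.lt_succ_of_lt (h.1.1.1 i hi)
    have hc : (cgen 13 : Equiv.Perm V) = el (cgWords.getD 13 []) := by
      unfold cgen
      rw [dif_pos (by norm_num)]
    rw [Subgroup.coe_mul, Subgroup.coe_mul, hx, hc]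
    have h := el_eq c_commutes_check
    rwa [el_append, el_append] at h
  show cgen 13 * xEl * (cgen 13)⁻¹ * xEl⁻¹ ∈ qG
  rw [e, mul_inv_cancel_right, mul_inv_cancel]
  exact one_mem _

theorem fixes_or_inverts (g : cG) : Fixes qG xEl g ∨ Inverts qG xEl g := by
  have key : ∀ y : Equiv.Perm V, y ∈ clG →
      ∀ h : y ∈ cG, Fixes qG xEl (⟨y, h⟩ : cG) ∨ Inverts qG xEl (⟨y, h⟩ : cG) := by
    intro y hy
    induction hy using Subgroup.closure_induction with
    | mem z hz =>
      obtain ⟨w, hw, rfl⟩ := hz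
      obtain ⟨i, hi, hiw⟩ := List.getElem_of_mem hw
      have hiw' : cgWords.getD i [] = w := (List.getD_eq_getElem _ _ hi).trans hiw
      intro h
      have hl := perms_ok
      rw [Bool.and_eq_true, Bool.and_eq_true] at hl
      have hi14 : i < 14 := Nat.eq_of_beq_eq_true hl.1.1 ▸ hi
      have e : (⟨el w, h⟩ : cG) = cgen i := by
        apply Subtype.ext
        unfold cgen
        rw [dif_pos hi14]
        exact congrArg el hiw'.symm
      rw [e]
      rcases Nat.lt_or_eq_of_le (Nat.le_of_lt_succ hi14) with h13 | rfl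
      · by_cases h11 : i = 11
        · exact Or.inr ((cgen_class h13).2 h11)
        · exact Or.inl ((cgen_class h13).1 h11)
      · exact Or.inl cgen13_fixes
    | one => exact fun _ => Or.inl (fixes_one qG_normal)
    | mul a b ha hb iha ihb =>
      intro h
      have ea := iha (clG_le ha)
      have eb := ihb (clG_le hb)
      have e : (⟨a * b, h⟩ : cG) = ⟨a, clG_le ha⟩ * ⟨b, clG_le hb⟩ := rfl
      rw [e]
      rcases ea with ea | ea <;> rcases eb with eb | eb
      · exact Or.inl (fixes_fixes qG_normal ea eb)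
      · exact Or.inr (fixes_inverts qG_normal ea eb)
      · exact Or.inr (inverts_fixes qG_normal ea eb)
      · exact Or.inl (inverts_inverts qG_normal ea eb)
    | inv a ha iha =>
      intro h
      have e : (⟨a⁻¹, h⟩ : cG) = (⟨a, clG_le ha⟩ : cG)⁻¹ := rfl
      rw [e]
      exact (iha (clG_le ha)).imp (fixes_inv qG_normal) (inverts_inv qG_normal)
  exact key g.1 (clG_eq.1.symm ▸ g.2) g.2

theorem mG_index : mG.index = 2 :=
  fixSub_index qG_normal xEl_cube xEl_not_mem fixes_or_inverts (a := cgen 11)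
    ((cgen_class (i := 11) (by norm_num)).2 rfl)

theorem ker_le_mG : psi.ker ≤ mG := by
  rw [ker_facts.2.2, sup_le_iff]
  refine ⟨fun q hq => le_fixSub_of_mem qG_normal hq, ?_⟩
  rw [Subgroup.zpowers_le]
  exact self_mem_fixSub qG_normal

theorem mG_normal : mG.Normal := Subgroup.normal_of_index_eq_two mG_index

end CfsgLib.Sporadic.J4Inv
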