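import Cfsg.Agent.Lib.Sporadic.J4Inv.Parity

/-!
# The image of the subgroup of index two is simple of order 443520 (owner: helper21)
-/

set_option autoImplicit false
set_option maxRecDepth 100000

namespace CfsgLib.Sporadic.J4Inv

open Cfsg CfsgLib.Sporadic.J4Order
open CfsgLib.Sporadic.J4Rep (V)
open scoped Pointwise commutatorElement

/-- The simple group. -/
noncomputable def sImg : Subgroup (Equiv.Perm (Fin 77)) := mG.map psi

theorem card_map_eq {G K : Type*} [Group G] [Group K] [Finite G] (f : G →* K) (M : Subgroup G) (h : f.ker ≤ M) :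
    Nat.card (M.map f) * Nat.card f.ker = Nat.card M := by
  have e : (f.comp M.subtype).ker = f.ker.subgroupOf M := rfl
  have h1 := Subgroup.card_eq_card_quotient_mul_card_subgroup (f.comp M.subtype).ker
  rw [Nat.card_congr (QuotientGroup.quotientKerEquivRange (f.comp M.subtype)).toEquiv, e,
    Nat.card_congr (Subgroup.subgroupOfEquivOfLe h).toEquiv] at h1
  rw [h1, MonoidHom.range_comp, Subgroup.range_subtype]

theorem sImg_card : Nat.card sImg = 443520 := by
  have h := card_map_eq psi mG ker_le_mG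
  have h2 := mG.card_mul_index
  rw [card_cG, mG_index] at h2
  rw [ker_facts.1] at h
  change Nat.card sImg * 24576 = Nat.card mG at h
  omega

theorem psi_mem {g : cG} (hg : g ∈ mG) : psi g ∈ sImg := Subgroup.mem_map_of_mem psi hg

theorem conj_sImg (g : cG) {σ : Equiv.Perm (Fin 77)} (hσ : σ ∈ sImg) : psi g * σ * (psi g)⁻¹ ∈ sImg := by
  obtain ⟨m, hm, rfl⟩ := hσ
  rw [← map_inv, ← map_mul, ← map_mul]
  exact psi_mem (mG_normal.conj_mem m hm g)

/-- The inverse word. -/
def invI (w : List ℕ) : List ℕ := w.reverse.map fun i => (i + 14) % 28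

theorem cgen_flip {i : ℕ} (hi : i < 28) : cgen ((i + 14) % 28) = (cgen i)⁻¹ := by
  apply Subtype.ext
  rw [Subgroup.coe_inv]
  unfold cgen
  by_cases h : i < 14
  · rw [show (i + 14) % 28 = i + 14 by omega, dif_neg (by omega), dif_pos (by omega), dif_pos h]
    simp only [Nat.add_sub_cancel]
  · rw [show (i + 14) % 28 = i - 14 by omega, dif_pos (by omega), dif_neg h, dif_pos hi]
    simp

theorem gw_invI : ∀ {w : List ℕ}, (∀ i ∈ w, i < 28) → gw (invI w) = (gw w)⁻¹
  | [], _ => by simp [gw, invI]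
  | i :: w, h => by
    have e : invI (i :: w) = invI w ++ [(i + 14) % 28] := by simp [invI]
    rw [e]
    show ((invI w ++ [(i + 14) % 28]).map cgen).prod = ((cgen i) * gw w)⁻¹
    rw [List.map_append, List.prod_append, List.map_singleton, List.prod_singleton, cgen_flip (h i List.mem_cons_self),
      mul_inv_rev]
    congr 1
    exact gw_invI fun j hj => h j (List.mem_cons_of_mem _ hj)

/-- The translation used. -/
noncomputable def tEl : cG := gw tWord

theorem tWord_check : (tWord.all (fun i => Nat.blt i 11) &&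
    selWords.all (fun g => g.all fun i => Nat.blt i 28) &&
    Nat.beq (wordPack cgPacks tWord) (wordPack cgPacks ([12, 0] ++ invI [12] ++ invI [0])) &&
    !Nat.beq (wordPack cgPacks tWord) pone7) = true := by decide +kernel

theorem small_mem_mG {i : ℕ} (hi : i < 13) (h : i ≠ 11) : cgen i ∈ mG := mem_mG.2 ((cgen_class hi).1 h)

theorem tEl_mem : tEl ∈ mG := by
  have h := tWord_check
  simp only [Bool.and_eq_true, List.all_eq_true, Nat.blt_eq] at h
  refine list_prod_mem fun g hg => ?_
  obtain ⟨i, hi, rfl⟩ := List.mem_map.1 hg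
  have := h.1.1.1 i hi
  exact small_mem_mG (by omega) (by omega)

/-- The images of the translations. -/
noncomputable def tImg : Subgroup (Equiv.Perm (Fin 77)) :=
  ((eG.subgroupOf cG) : Subgroup cG).map psi

theorem tEl_eG : (tEl : Equiv.Perm V) ∈ eG := by
  have h := tWord_check
  simp only [Bool.and_eq_true, List.all_eq_true, Nat.blt_eq] at h
  have e : (tEl : Equiv.Perm V) = el (tWord.flatMap fun i => cgWords.getD i []) :=
    gw_eq_el tWord fun i hi => by have := h.1.1.1 i hi; omega
  have hw : (List.range 11).all (fun i => cgWords.getD i [] == [6 + i]) = true := by decide +kernel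
  rw [e]
  have key : ∀ w : List ℕ, (∀ i ∈ w, i < 11) → el (w.flatMap fun i => cgWords.getD i []) ∈ eG := by
    intro w
    induction w with
    | nil => exact fun _ => one_mem eG
    | cons a w ih =>
      intro ha
      rw [List.flatMap_cons, el_append, eq_of_beq (List.all_eq_true.1 hw a (List.mem_range.2 (ha a List.mem_cons_self))),
        el_single]
      exact mul_mem (let2_mem_eG (ha a List.mem_cons_self)) (ih fun i hi => ha i (List.mem_cons_of_mem _ hi))
  exact key _ fun i hi => h.1.1.1 i hi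

theorem psi_tEl_mem : psi tEl ∈ tImg := Subgroup.mem_map_of_mem psi tEl_eG

/-- The conjugates generating the simple part. -/
noncomputable def conjGen (g : List ℕ) : Equiv.Perm (Fin 77) := psi (gw g) * psi tEl * (psi (gw g))⁻¹

theorem selFull_check : ((fullSel.take 7).map (wordPack cgPacks) ==
    selWords.map fun g => wordPack cgPacks (g ++ tWord ++ invI g)) = true := by decide +kernel

theorem simple_chain : (chain7 (selWords.map fun g => wordPack cgPacks (g ++ tWord ++ invI g)) simpleChain [] &&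
    Nat.beq (simpleChain.map fun l => popc7 l.2.2.2).prod 443520) = true := by decide +kernel

/-- The group generated by the conjugates. -/
noncomputable def sGen : Subgroup (Equiv.Perm (Fin 77)) :=
  Subgroup.closure {σ | ∃ g ∈ selWords, σ = conjGen g}

theorem conjGen_mem {g : List ℕ} : conjGen g ∈ sImg := conj_sImg _ (psi_mem tEl_mem)

theorem sGen_le : sGen ≤ sImg := by
  rw [sGen, Subgroup.closure_le]
  rintro _ ⟨g, -, rfl⟩
  exact conjGen_mem

/-- The packed generators. -/
noncomputable def sPacks : List ℕ := selWords.map fun g => wordPack cgPacks (g ++ tWord ++ invI g)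

/-- A generator by number. -/
noncomputable def sGenAt (j : ℕ) : Equiv.Perm (Fin 77) :=
  if h : j < selWords.length then conjGen selWords[j] else 1

theorem sGenAt_mem (j : ℕ) : sGenAt j ∈ sGen := by
  unfold sGenAt
  split
  · exact Subgroup.subset_closure ⟨_, List.getElem_mem _, rfl⟩
  · exact one_mem _

theorem rep_sGenAt (j : ℕ) : Rep7 (sGenAt j) (sPacks.getD j pone7) := by
  unfold sGenAt sPacks
  split
  · rename_i hj
    rw [List.getD_eq_getElem _ _ (by rw [List.length_map]; exact hj), List.getElem_map]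
    have h := tWord_check
    simp only [Bool.and_eq_true, List.all_eq_true, Nat.blt_eq] at h
    have e : conjGen selWords[j] = psi (gw (selWords[j] ++ tWord ++ invI selWords[j])) := by
      rw [conjGen, ← map_inv, ← map_mul, ← map_mul, ← gw_invI (h.1.1.2 _ (List.getElem_mem hj)), tEl]
      congr 1
      simp [gw, mul_assoc]
    rw [e]
    exact rep_gw _
  · rename_i hj
    rw [List.getD_eq_default _ _ (by rw [List.length_map]; omega)]
    exact Rep7.one

theorem rep_sWord (w : List ℕ) : ∃ σ ∈ sGen, Rep7 σ (wordPack sPacks w) :=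
  ⟨_, list_prod_mem fun σ hσ => by obtain ⟨j, -, rfl⟩ := List.mem_map.1 hσ; exact sGenAt_mem j,
    rep_wordPack rep_sGenAt w⟩

theorem sGen_eq : sGen = sImg := by
  have h := simple_chain
  rw [Bool.and_eq_true] at h
  have h2 := card_ge_of_chain rep_sWord h.1
  rw [Nat.eq_of_beq_eq_true h.2] at h2
  exact Subgroup.eq_of_le_of_card_ge sGen_le (by rw [sImg_card]; exact h2)

theorem gw_append (u w : List ℕ) : gw (u ++ w) = gw u * gw w := by
  rw [gw, gw, gw, List.map_append, List.prod_append]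

theorem gw_single (i : ℕ) : gw [i] = cgen i := by
  rw [gw, List.map_singleton, List.prod_singleton]

theorem gw_commutator :
    gw ([12, 0] ++ invI [12] ++ invI [0]) = ⁅cgen 12, cgen 0⁆ := by
  rw [show ([12, 0] : List ℕ) = [12] ++ [0] from rfl, gw_append, gw_append, gw_append, gw_invI (by simp),
    gw_invI (by simp), gw_single, gw_single, commutatorElement_def]

theorem psi_tEl_commutator : psi tEl = ⁅psi (cgen 12), psi (cgen 0)⁆ := by
  have h := tWord_check
  rw [Bool.and_eq_true, Bool.and_eq_true] at h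
  have r1 := rep_gw tWord
  rw [Nat.eq_of_beq_eq_true h.1.2] at r1
  have r2 := r1.unique (rep_gw ([12, 0] ++ invI [12] ++ invI [0]))
  rw [gw_commutator, map_commutatorElement] at r2
  exact r2

theorem sImg_perfect : ⁅sImg, sImg⁆ = sImg := by
  refine le_antisymm (Subgroup.commutator_le.2 fun a ha b hb =>
    mul_mem (mul_mem (mul_mem ha hb) (inv_mem ha)) (inv_mem hb)) ?_
  conv_lhs => rw [← sGen_eq]
  rw [sGen, Subgroup.closure_le]
  rintro _ ⟨g, -, rfl⟩
  show conjGen g ∈ ⁅sImg, sImg⁆
  rw [conjGen, psi_tEl_commutator, ← MulAut.conj_apply, map_commutatorElement]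
  refine Subgroup.commutator_mem_commutator ?_ ?_
  · exact conj_sImg _ (psi_mem (small_mem_mG (by norm_num) (by norm_num)))
  · exact conj_sImg _ (psi_mem (small_mem_mG (by norm_num) (by norm_num)))

theorem psi_ptV_zero {g : cG} : psi g 0 = 0 ↔ (g : Equiv.Perm V) oneV = oneV := by
  rw [← ptV_zero, psi_spec]
  exact ⟨fun h => by rw [h], fun h => ptV_injective h⟩

theorem stab_normalizes {g : cG} (h : psi g 0 = 0) {τ : Equiv.Perm (Fin 77)} (hτ : τ ∈ tImg) :
    psi g * τ * (psi g)⁻¹ ∈ tImg := by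
  obtain ⟨e, he, rfl⟩ := hτ
  rw [← map_inv, ← map_mul, ← map_mul]
  refine Subgroup.mem_map_of_mem psi ?_
  have hn := clG_eq.2 g g.2 (psi_ptV_zero.1 h)
  exact (Subgroup.mem_normalizer_iff.1 (nG_le_normalizer hn) e).1 he

theorem tImg_comm : ∀ a ∈ tImg, ∀ b ∈ tImg, a * b = b * a := by
  rintro _ ⟨a, ha, rfl⟩ _ ⟨b, hb, rfl⟩
  rw [← map_mul, ← map_mul]
  refine congrArg psi (Subtype.ext ?_)
  obtain ⟨i, -, hi⟩ := (show (a : Equiv.Perm V) ∈ eG from ha)
  obtain ⟨j, -, hj⟩ := (show (b : Equiv.Perm V) ∈ eG from hb)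
  rw [Subgroup.coe_mul, Subgroup.coe_mul, hi, hj, ← eA_xor, ← eA_xor, Nat.xor_comm]

theorem tImg_le : tImg ≤ sImg := by
  rintro _ ⟨e, he, rfl⟩
  refine psi_mem ?_
  rcases fixes_or_inverts e with h | h
  · exact mem_mG.2 h
  · exfalso
    obtain ⟨i, -, hi⟩ := (show (e : Equiv.Perm V) ∈ eG from he)
    have hee : e * e = 1 := Subtype.ext (by rw [Subgroup.coe_mul, hi, eA_sq]; rfl)
    exact eG_not_inverts hi h
where
  eG_not_inverts {e : cG} {a : ℕ} (hi : (e : Equiv.Perm V) = eA a) (h : Inverts qG xEl e) : False := by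
    have hgen : ∀ n ≤ 11, ∀ b, ∃ u : cG, (u : Equiv.Perm V) = el (eWN n b) ∧ u ∈ mG := by
      intro n
      induction n with
      | zero => exact fun _ b => ⟨1, rfl, one_mem _⟩
      | succ n ih =>
        intro hn b
        obtain ⟨u, hu, hm⟩ := ih (by omega) b
        rw [eWN_succ]
        cases b.testBit n
        · exact ⟨u, by rw [cond_false, List.append_nil]; exact hu, hm⟩
        · refine ⟨u * cgen n, ?_, mul_mem hm (small_mem_mG (by omega) (by omega))⟩
          have hw : (List.range 11).all (fun i => cgWords.getD i [] == [6 + i]) = true := by decide +kernel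
          rw [Subgroup.coe_mul, hu, cond_true, el_append]
          congr 1
          unfold cgen
          rw [dif_pos (by omega)]
          exact congrArg el (eq_of_beq (List.all_eq_true.1 hw n (List.mem_range.2 (by omega))))
    obtain ⟨u, hu, hm⟩ := hgen 11 le_rfl a
    obtain rfl : u = e := Subtype.ext (hu.trans hi.symm)
    exact not_both qG_normal xEl_cube xEl_not_mem (mem_mG.1 hm) h

/-- Following the edges of a suborbit. -/
noncomputable def runS (es : List (ℕ × ℕ × List ℕ)) : ℕ → ℕ :=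
  List.rec (motive := fun _ => ℕ → ℕ) (fun M => M)
    (fun e _ ih M => cond (M.testBit e.2.1 && Nat.blt e.2.1 77 &&
      Nat.beq (pget7 (wordPack sPacks e.2.2) 0) 0 &&
      Nat.beq (pget7 (wordPack sPacks e.2.2) e.2.1) e.1) (strict (M ||| 1 <<< e.1) ih) 0) es

theorem suborbit_check : strict (runS subEdges0 (1 <<< subRoot0)) (fun A => strict (runS subEdges1 (1 <<< subRoot1))
    fun B => Nat.beq (A ||| B ||| 1) (2 ^ 77 - 1) && Nat.beq (A &&& B) 0 && !A.testBit 0 && !B.testBit 0 &&
      Nat.blt subRoot0 77 && Nat.blt subRoot1 77 &&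
      [A, B, A ||| B].all (fun X => strict ((List.range 77).filter fun i => X.testBit i).length fun k =>
        Nat.beq k 76 || !Nat.beq (77 % (k + 1)) 0)) = true := by decide +kernel

theorem runS_sound {B : Set (Fin 77)} (hB : ∀ σ ∈ sImg, σ 0 = 0 → ∀ q, q ∈ B ↔ σ q ∈ B) (r : Fin 77) :
    ∀ (es : List (ℕ × ℕ × List ℕ)) {M : ℕ}, (∀ p : Fin 77, M.testBit p.val = true → (p ∈ B ↔ r ∈ B)) →
      ∀ p : Fin 77, (runS es M).testBit p.val = true → (p ∈ B ↔ r ∈ B)
  | [], _, hM => hM
  | (c, p, w) :: es, M, hM => by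
    intro q hq
    change (cond (M.testBit p && Nat.blt p 77 && Nat.beq (pget7 (wordPack sPacks w) 0) 0 &&
      Nat.beq (pget7 (wordPack sPacks w) p) c) (strict (M ||| 1 <<< c) (runS es)) 0).testBit q.val = true at hq
    cases hc : (M.testBit p && Nat.blt p 77 && Nat.beq (pget7 (wordPack sPacks w) 0) 0 &&
        Nat.beq (pget7 (wordPack sPacks w) p) c) with
    | false => rw [hc, cond_false] at hq; simp at hq
    | true =>
      rw [hc, cond_true, strict_eq] at hq
      simp only [Bool.and_eq_true, Nat.blt_eq] at hc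
      obtain ⟨⟨⟨hMp, hp⟩, h0⟩, himg⟩ := hc
      obtain ⟨σ, hσ, hr⟩ := rep_sWord w
      refine runS_sound hB r es (fun s hs => ?_) q hq
      rw [Nat.testBit_or, Bool.or_eq_true, Nat.one_shiftLeft, Nat.testBit_two_pow, decide_eq_true_eq] at hs
      rcases hs with hs | hs
      · exact hM s hs
      · have e : σ ⟨p, hp⟩ = s := Fin.ext ((hr ⟨p, hp⟩).symm.trans ((Nat.eq_of_beq_eq_true himg).trans hs))
        have e0 : σ 0 = 0 := Fin.ext ((hr 0).symm.trans (Nat.eq_of_beq_eq_true h0))
        rw [← e, ← hB σ (sGen_le hσ) e0]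
        exact hM ⟨p, hp⟩ hMp

theorem block_cases {B : Set (Fin 77)} (h0 : (0 : Fin 77) ∈ B) (hdvd : B.ncard ∣ 77)
    (hB : ∀ σ ∈ sImg, σ 0 = 0 → ∀ q, q ∈ B ↔ σ q ∈ B) : B = {0} ∨ B = Set.univ := by
  classical
  have h := suborbit_check
  rw [strict_eq, strict_eq] at h
  set A := runS subEdges0 (1 <<< subRoot0) with hA
  set C := runS subEdges1 (1 <<< subRoot1) with hC
  simp only [Bool.and_eq_true, Bool.not_eq_true', List.all_eq_true, Nat.blt_eq, strict_eq] at h
  obtain ⟨⟨⟨⟨⟨⟨hcov, hdis⟩, hA0⟩, hC0⟩, hr0⟩, hr1⟩, hsz⟩ := h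
  have key : ∀ (es : List (ℕ × ℕ × List ℕ)) (r : ℕ) (hr : r < 77) (p : Fin 77),
      (runS es (1 <<< r)).testBit p.val = true → (p ∈ B ↔ (⟨r, hr⟩ : Fin 77) ∈ B) := fun es r hr p hp =>
    runS_sound hB ⟨r, hr⟩ es (M := 1 <<< r) (fun s hs => by
      rw [Nat.one_shiftLeft, Nat.testBit_two_pow, decide_eq_true_eq] at hs
      rw [show s = ⟨r, hr⟩ from Fin.ext hs.symm]) p hp
  have hsplit : ∀ p : Fin 77, p = 0 ∨ A.testBit p.val = true ∨ C.testBit p.val = true := by
    intro p
    have hbit : (A ||| C ||| 1).testBit p.val = true := by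
      rw [Nat.eq_of_beq_eq_true hcov, Nat.testBit_two_pow_sub_one]
      simpa using p.isLt
    rw [Nat.testBit_or, Nat.testBit_or, Bool.or_eq_true, Bool.or_eq_true] at hbit
    rcases hbit with hbit | hbit
    · exact Or.inr hbit
    · left
      rw [show (1 : ℕ) = 2 ^ 0 from rfl, Nat.testBit_two_pow, decide_eq_true_eq] at hbit
      exact Fin.ext hbit.symm
  have hdj : ∀ p : Fin 77, A.testBit p.val = true → C.testBit p.val = false := fun p hp => by
    have := congrArg (fun X => X.testBit p.val) (Nat.eq_of_beq_eq_true hdis)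
    simpa [Nat.testBit_and, hp] using this
  have count : ∀ X : ℕ, X ∈ [A, C, A ||| C] → (∀ p : Fin 77, p ∈ B ↔ p = 0 ∨ X.testBit p.val = true) →
      X.testBit 0 = false → B = Set.univ := by
    intro X hX hmem hX0
    have hS : B = insert (0 : Fin 77) {p | X.testBit p.val = true} := by
      ext p; rw [hmem p]; rfl
    have hcard : ({p : Fin 77 | X.testBit p.val = true} : Set (Fin 77)).ncard =
        ((List.range 77).filter fun i => X.testBit i).length := by
      rw [← List.toFinset_card_of_nodup (List.nodup_range.filter _), ← Set.ncard_coe_finset,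
        ← Set.ncard_image_of_injective _ Fin.val_injective]
      congr 1
      ext i
      simp only [Set.mem_image, Set.mem_ofPred_eq, List.coe_toFinset, List.mem_filter, List.mem_range]
      exact ⟨by rintro ⟨p, hp, rfl⟩; exact ⟨p.isLt, hp⟩, fun ⟨hi, hb⟩ => ⟨⟨i, hi⟩, hb, rfl⟩⟩
    have hB' : B.ncard = ((List.range 77).filter fun i => X.testBit i).length + 1 := by
      rw [hS, Set.ncard_insert_of_notMem (by simp [hX0]), hcard]
    have h' := hsz X hX
    rw [Bool.or_eq_true] at h'
    rcases h' with h' | h'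
    · refine Set.eq_of_subset_of_ncard_le (Set.subset_univ _) ?_ (Set.toFinite _)
      rw [Set.ncard_univ, Nat.card_fin, hB', Nat.eq_of_beq_eq_true h']
    · exfalso
      rw [hB'] at hdvd
      rw [Bool.not_eq_true'] at h'
      rw [Nat.mod_eq_zero_of_dvd hdvd] at h'
      exact absurd h' (by decide)
  by_cases hA' : (⟨subRoot0, hr0⟩ : Fin 77) ∈ B <;> by_cases hC' : (⟨subRoot1, hr1⟩ : Fin 77) ∈ B
  · refine Or.inr (count (A ||| C) (by simp) (fun p => ?_) (by rw [Nat.testBit_or, hA0, hC0]; rfl))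
    rw [Nat.testBit_or, Bool.or_eq_true]
    refine ⟨fun _ => hsplit p, ?_⟩
    rintro (rfl | hp | hp)
    · exact h0
    · exact (key _ _ hr0 p hp).2 hA'
    · exact (key _ _ hr1 p hp).2 hC'
  · refine Or.inr (count A (by simp) (fun p => ⟨fun hp => ?_, ?_⟩) hA0)
    · rcases hsplit p with h | h | h
      · exact Or.inl h
      · exact Or.inr h
      · exact absurd ((key _ _ hr1 p h).1 hp) hC'
    · rintro (rfl | hp)
      · exact h0
      · exact (key _ _ hr0 p hp).2 hA'
  · refine Or.inr (count C (by simp) (fun p => ⟨fun hp => ?_, ?_⟩) hC0)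
    · rcases hsplit p with h | h | h
      · exact Or.inl h
      · exact absurd ((key _ _ hr0 p h).1 hp) hA'
      · exact Or.inr h
    · rintro (rfl | hp)
      · exact h0
      · exact (key _ _ hr1 p hp).2 hC'
  · left
    ext p
    refine ⟨fun hp => ?_, fun hp => by rw [Set.mem_singleton_iff] at hp; subst hp; exact h0⟩
    rcases hsplit p with h | h | h
    · exact h
    · exact absurd ((key _ _ hr0 p h).1 hp) hA'
    · exact absurd ((key _ _ hr1 p h).1 hp) hC'

theorem first_level : (simpleChain.take 1).all (fun l => l.1 == [] && Nat.beq l.2.1 0 &&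
    Nat.beq l.2.2.2 (2 ^ 77 - 1) && levelOK7 l.1 l.2.1 (l.2.2.1.map (wordPack sPacks)) l.2.2.2) = true ∧
    (simpleChain.take 1).length = 1 := by decide +kernel

theorem sImg_transitive (p : Fin 77) : ∃ σ ∈ sImg, σ 0 = p := by
  obtain ⟨h1, h2⟩ := first_level
  obtain ⟨l, hl⟩ := List.length_eq_one_iff.1 h2
  rw [hl, List.all_cons, List.all_nil, Bool.and_true] at h1
  simp only [Bool.and_eq_true] at h1
  obtain ⟨⟨⟨-, hb⟩, hO⟩, hlev⟩ := h1
  obtain ⟨hb', σ, hσ, e⟩ := exists_of_level7 (K := sGen) hlev (fun q hq => by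
    obtain ⟨w, -, rfl⟩ := List.mem_map.1 hq
    exact rep_sWord w) (q := p.val) (by
      rw [Nat.eq_of_beq_eq_true hO, Nat.testBit_two_pow_sub_one]
      simpa using p.isLt)
  refine ⟨σ, sGen_le (mem_fix7.1 hσ).1, Fin.ext ?_⟩
  rw [← e]
  exact congrArg (fun x => (σ x).val) (Fin.ext (Nat.eq_of_beq_eq_true hb).symm)

theorem sImg_simple : IsSimpleGroup sImg := by
  haveI : Nontrivial sImg := by
    rw [← Finite.one_lt_card_iff_nontrivial, sImg_card]
    norm_num
  haveI : MulAction.IsPretransitive sImg (Fin 77) := by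
    refine ⟨fun p q => ?_⟩
    obtain ⟨σ, hσ, rfl⟩ := sImg_transitive p
    obtain ⟨τ, hτ, rfl⟩ := sImg_transitive q
    exact ⟨⟨τ * σ⁻¹, mul_mem hτ (inv_mem hσ)⟩, by show (τ * σ⁻¹) (σ 0) = τ 0; simp⟩
  refine { eq_bot_or_eq_top_of_normal := fun L hL => ?_ }
  haveI := hL
  set B : Set (Fin 77) := MulAction.orbit L (0 : Fin 77) with hBdef
  have hblock : MulAction.IsBlock sImg B := MulAction.IsBlock.orbit_of_normal 0
  have h0 : (0 : Fin 77) ∈ B := MulAction.mem_orbit_self 0
  have hdvd : B.ncard ∣ 77 := by simpa using hblock.ncard_dvd_card ⟨0, h0⟩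
  have hBinv : ∀ σ ∈ sImg, σ 0 = 0 → ∀ q, q ∈ B ↔ σ q ∈ B := by
    intro σ hσ hfix q
    have hforw : ∀ σ ∈ sImg, σ 0 = 0 → ∀ q ∈ B, σ q ∈ B := by
      rintro σ hσ hfix _ ⟨l, rfl⟩
      refine ⟨⟨⟨σ, hσ⟩ * l * (⟨σ, hσ⟩ : sImg)⁻¹, hL.conj_mem l l.2 ⟨σ, hσ⟩⟩, ?_⟩
      show (σ * (l : sImg).1 * σ⁻¹) 0 = σ ((l : sImg).1 0)
      rw [Equiv.Perm.mul_apply, show σ⁻¹ 0 = 0 by rw [Equiv.Perm.inv_eq_iff_eq]; exact hfix.symm,
        Equiv.Perm.mul_apply]
    refine ⟨hforw σ hσ hfix q, fun h => ?_⟩
    have := hforw σ⁻¹ (inv_mem hσ) (by rw [Equiv.Perm.inv_eq_iff_eq]; exact hfix.symm) _ h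
    simpa using this
  rcases block_cases h0 hdvd hBinv with hB | hB
  · left
    rw [Subgroup.eq_bot_iff_forall]
    intro l hl
    apply Subtype.ext
    refine Equiv.ext fun p => ?_
    obtain ⟨σ, hσ, rfl⟩ := sImg_transitive p
    have hm : (⟨σ, hσ⟩ : sImg)⁻¹ * l * ⟨σ, hσ⟩ ∈ L := by
      have := hL.conj_mem l hl (⟨σ, hσ⟩ : sImg)⁻¹
      rwa [inv_inv] at this
    have hin : (σ⁻¹ * l.1 * σ) 0 ∈ B := ⟨⟨_, hm⟩, rfl⟩
    rw [hB, Set.mem_singleton_iff, Equiv.Perm.mul_apply, Equiv.Perm.mul_apply, Equiv.Perm.inv_eq_iff_eq] at hin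
    exact hin
  · right
    set U : Subgroup sImg := L ⊔ tImg.subgroupOf sImg with hU
    have hsplit : ∀ s : sImg, ∃ l ∈ L, ∃ f : sImg, (f : Equiv.Perm (Fin 77)) 0 = 0 ∧ s = l * f := by
      intro s
      have : (s : Equiv.Perm (Fin 77)) 0 ∈ B := hB ▸ Set.mem_univ _
      obtain ⟨l, hl⟩ := this
      refine ⟨l, l.2, (l : sImg)⁻¹ * s, ?_, by rw [mul_inv_cancel_left]⟩
      show ((l : sImg).1⁻¹ * s.1) 0 = 0
      rw [Equiv.Perm.mul_apply, ← hl]
      show (l : sImg).1⁻¹ ((l : sImg).1 0) = 0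
      simp
    have hUn : ∀ s : sImg, ∀ u ∈ U, s * u * s⁻¹ ∈ U := by
      intro s u hu
      obtain ⟨l, hl, f, hf, rfl⟩ := hsplit s
      have hfu : f * u * f⁻¹ ∈ U := by
        obtain ⟨a, ha, b, hb, rfl⟩ := Subgroup.mem_sup_of_normal_left.1 hu
        rw [show f * (a * b) * f⁻¹ = f * a * f⁻¹ * (f * b * f⁻¹) by group]
        refine mul_mem (Subgroup.mem_sup_left (hL.conj_mem a ha f)) (Subgroup.mem_sup_right ?_)
        obtain ⟨g, -, hg⟩ := f.2
        rw [Subgroup.mem_subgroupOf]
        show f.1 * b.1 * f.1⁻¹ ∈ tImg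
        rw [← hg] at hf ⊢
        exact stab_normalizes hf hb
      rw [show l * f * u * (l * f)⁻¹ = l * (f * u * f⁻¹) * l⁻¹ by group]
      exact mul_mem (mul_mem (Subgroup.mem_sup_left hl) hfu) (inv_mem (Subgroup.mem_sup_left hl))
    have hUall : ∀ s ∈ sImg, ∀ hs : s ∈ sImg, (⟨s, hs⟩ : sImg) ∈ U := by
      intro s hs'
      rw [← sGen_eq] at hs'
      induction hs' using Subgroup.closure_induction with
      | mem z hz =>
        intro hs
        obtain ⟨g, -, rfl⟩ := hz
        have h11 := (cgen_class (i := 11) (by norm_num)).2 rfl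
        have hfix11 : psi (cgen 11) 0 = 0 := by
          have hp : Nat.beq (pget7 (cgPacks.getD 11 pone7) 0) 0 = true := by decide +kernel
          exact Fin.ext ((rep_cgen 11 0).symm.trans (Nat.eq_of_beq_eq_true hp))
        rcases fixes_or_inverts (gw g) with hg | hg
        · have h := hUn ⟨psi (gw g), psi_mem (mem_mG.2 hg)⟩ ⟨psi tEl, tImg_le psi_tEl_mem⟩
            (Subgroup.mem_sup_right psi_tEl_mem)
          exact h
        · have hm : gw g * (cgen 11)⁻¹ ∈ mG :=
            mem_mG.2 (inverts_inverts qG_normal hg (inverts_inv qG_normal h11))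
          have ht : psi (cgen 11) * psi tEl * (psi (cgen 11))⁻¹ ∈ tImg := stab_normalizes hfix11 psi_tEl_mem
          have h := hUn ⟨psi (gw g * (cgen 11)⁻¹), psi_mem hm⟩ ⟨_, tImg_le ht⟩ (Subgroup.mem_sup_right ht)
          convert h using 1
          apply Subtype.ext
          show conjGen g = psi (gw g * (cgen 11)⁻¹) * (psi (cgen 11) * psi tEl * (psi (cgen 11))⁻¹) *
            (psi (gw g * (cgen 11)⁻¹))⁻¹
          rw [conjGen, map_mul, map_inv]
          group
      | one => exact fun _ => one_mem U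
      | mul a b ha hb iha ihb =>
        intro hs
        exact mul_mem (iha (sGen_le ha)) (ihb (sGen_le hb))
      | inv a ha iha =>
        intro hs
        exact inv_mem (iha (sGen_le ha))
    have hcomm : ⁅(⊤ : Subgroup sImg), ⊤⁆ ≤ L := by
      rw [Subgroup.commutator_le]
      intro a _ b _
      obtain ⟨l, hl, t, ht, rfl⟩ := Subgroup.mem_sup_of_normal_left.1 (show a ∈ U from hUall a.1 a.2 a.2)
      obtain ⟨l', hl', t', ht', rfl⟩ := Subgroup.mem_sup_of_normal_left.1 (show b ∈ U from hUall b.1 b.2 b.2)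
      rw [← QuotientGroup.eq_one_iff]
      have e : ∀ (l t : sImg), l ∈ L → ((l * t : sImg) : sImg ⧸ L) = (t : sImg ⧸ L) := fun l t hl => by
        rw [QuotientGroup.mk_mul, (QuotientGroup.eq_one_iff l).2 hl, one_mul]
      show QuotientGroup.mk' L ⁅l * t, l' * t'⁆ = 1
      rw [map_commutatorElement, commutatorElement_eq_one_iff_mul_comm]
      show ((l * t : sImg) : sImg ⧸ L) * ((l' * t' : sImg) : sImg ⧸ L) = _
      rw [e l t hl, e l' t' hl', ← QuotientGroup.mk_mul]
      show ((t * t' : sImg) : sImg ⧸ L) = ((l' * t' : sImg) : sImg ⧸ L) * ((l * t : sImg) : sImg ⧸ L)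
      rw [e l t hl, e l' t' hl', ← QuotientGroup.mk_mul]
      exact congrArg _ (Subtype.ext (tImg_comm _ ht _ ht'))
    rw [eq_top_iff]
    refine le_trans ?_ hcomm
    have hperf := sImg_perfect
    rw [← Subgroup.map_subtype_le_map_subtype, Subgroup.map_commutator, ← MonoidHom.range_eq_map,
      Subgroup.range_subtype, hperf]

end CfsgLib.Sporadic.J4Inv
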